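import Cfsg.Agent.NoOffender.Offenders

/-!
Transport of offenders and of `dGood` along equivariant maps and along translation by an element.
-/

set_option autoImplicit false

namespace CfsgLib.NoOffender

variable {X V : Type*} [Group X] [AddCommGroup V] [DistribMulAction X V]

/-- The translate `x • S`. -/
def smulSub (x : X) (S : AddSubgroup V) : AddSubgroup V :=
  S.map (DistribSMul.toAddMonoidHom V x)

theorem mem_smulSub {x : X} {S : AddSubgroup V} {v : V} : v ∈ smulSub x S ↔ x⁻¹ • v ∈ S := by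
  constructor
  · rintro ⟨w, hw, rfl⟩
    show x⁻¹ • x • w ∈ S
    rwa [inv_smul_smul]
  · intro h
    exact ⟨_, h, smul_inv_smul x v⟩

theorem smul_mem_smulSub {x : X} {S : AddSubgroup V} {v : V} (h : v ∈ S) : x • v ∈ smulSub x S :=
  ⟨v, h, rfl⟩

theorem smulSub_inv_smulSub (x : X) (S : AddSubgroup V) : smulSub x⁻¹ (smulSub x S) = S := by
  ext v
  rw [mem_smulSub, mem_smulSub, inv_inv, inv_smul_smul]

theorem smulSub_mono (x : X) {S T : AddSubgroup V} (h : S ≤ T) : smulSub x S ≤ smulSub x T :=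
  AddSubgroup.map_mono h

theorem card_smulSub (x : X) (S : AddSubgroup V) : Nat.card (smulSub x S) = Nat.card S :=
  (Nat.card_congr (S.equivMapOfInjective (DistribSMul.toAddMonoidHom V x)
    (MulAction.injective x)).toEquiv).symm

/-- The setwise stabiliser. -/
def stabS (S : AddSubgroup V) : Subgroup X where
  carrier := {x | smulSub x S = S}
  one_mem' := by
    ext v
    rw [mem_smulSub, inv_one, one_smul]
  mul_mem' {a b} ha hb := by
    show smulSub (a * b) S = S
    ext v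
    rw [mem_smulSub, mul_inv_rev, mul_smul, ← mem_smulSub, show smulSub b S = S from hb,
      ← mem_smulSub, show smulSub a S = S from ha]
  inv_mem' {a} ha := by
    show smulSub a⁻¹ S = S
    conv_lhs => rw [← (show smulSub a S = S from ha)]
    exact smulSub_inv_smulSub a S

theorem smul_mem_iff_of_mem_stabS {x : X} {S : AddSubgroup V} (h : x ∈ stabS S) {v : V} :
    x • v ∈ S ↔ v ∈ S := by
  conv_lhs => rw [← (show smulSub x S = S from h), mem_smulSub, inv_smul_smul]

theorem inv_iff_le_stabS [Finite V] {B : Subgroup X} {S : AddSubgroup V} :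
    Inv B S ↔ B ≤ stabS S := by
  refine ⟨fun h b hb => ?_, fun h b hb v hv => (smul_mem_iff_of_mem_stabS (h hb)).2 hv⟩
  refine AddSubgroup.eq_of_le_of_card_ge ?_ (card_smulSub b S).ge
  rintro _ ⟨v, hv, rfl⟩
  exact h b hb v hv

section transfer

variable {X' V' : Type*} [Group X'] [AddCommGroup V'] [DistribMulAction X' V']
  (f : X →* X') (ι : V' →+ V) (hι : Function.Injective ι)
  (h : ∀ (x : X) (v : V'), ι (f x • v) = x • ι v)
include hι h

theorem map_inf_fixV (B : Subgroup X) (S : AddSubgroup V') :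
    (S ⊓ fixV (B.map f)).map ι = S.map ι ⊓ fixV B := by
  ext v
  constructor
  · rintro ⟨w, ⟨hw, hfix⟩, rfl⟩
    exact ⟨⟨w, hw, rfl⟩, fun b hb => by rw [← h, hfix (f b) ⟨b, hb, rfl⟩]⟩
  · rintro ⟨⟨w, hw, rfl⟩, hfix⟩
    refine ⟨w, ⟨hw, ?_⟩, rfl⟩
    rintro _ ⟨b, hb, rfl⟩
    exact hι (by rw [h]; exact hfix b hb)

theorem inv_map_iff (B : Subgroup X) (S : AddSubgroup V') :
    Inv (B.map f) S ↔ Inv B (S.map ι) := by
  constructor
  · rintro hi b hb _ ⟨w, hw, rfl⟩
    exact ⟨f b • w, hi _ ⟨b, hb, rfl⟩ w hw, h b w⟩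
  · rintro hi _ ⟨b, hb, rfl⟩ w hw
    obtain ⟨u, hu, hu'⟩ := hi b hb (ι w) ⟨w, hw, rfl⟩
    rw [← h] at hu'
    exact hι hu' ▸ hu

theorem map_kerOn (B : Subgroup X) (S : AddSubgroup V') :
    (kerOn B (S.map ι)).map f = kerOn (B.map f) S := by
  ext z
  constructor
  · rintro ⟨b, hb, rfl⟩
    exact mem_kerOn.2 ⟨⟨b, (mem_kerOn.1 hb).1, rfl⟩, fun w hw => hι (by
      rw [h]; exact (mem_kerOn.1 hb).2 _ ⟨w, hw, rfl⟩)⟩
  · intro hz
    obtain ⟨⟨b, hb, rfl⟩, hb'⟩ := mem_kerOn.1 hz
    refine ⟨b, mem_kerOn.2 ⟨hb, ?_⟩, rfl⟩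
    rintro _ ⟨w, hw, rfl⟩
    rw [← h, hb' w hw]

variable [Finite X]

theorem offOn_map_iff (B : Subgroup X) (S : AddSubgroup V') :
    OffOn (B.map f) S ↔ OffOn B (S.map ι) := by
  have hS : Nat.card S = Nat.card (S.map ι) := Nat.card_congr (S.equivMapOfInjective ι hι).toEquiv
  have hU : Nat.card ↥(S ⊓ fixV (B.map f)) = Nat.card ↥(S.map ι ⊓ fixV B) := by
    rw [← map_inf_fixV f ι hι h]
    exact Nat.card_congr ((S ⊓ fixV (B.map f)).equivMapOfInjective ι hι).toEquiv
  have hnt : S ≤ fixV (B.map f) ↔ S.map ι ≤ fixV B := by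
    constructor
    · rintro hle _ ⟨w, hw, rfl⟩ b hb
      rw [← h, hle hw (f b) ⟨b, hb, rfl⟩]
    · rintro hle w hw _ ⟨b, hb, rfl⟩
      exact hι (by rw [h]; exact hle ⟨w, hw, rfl⟩ b hb)
  have hinvol : (∀ b ∈ B.map f, ∀ v ∈ S, b • b • v = v) ↔
      ∀ b ∈ B, ∀ v ∈ S.map ι, b • b • v = v := by
    constructor
    · rintro hs b hb _ ⟨w, hw, rfl⟩
      rw [← h, ← h, hs _ ⟨b, hb, rfl⟩ w hw]
    · rintro hs _ ⟨b, hb, rfl⟩ w hw
      exact hι (by rw [h, h]; exact hs b hb _ ⟨w, hw, rfl⟩)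
  -- the quotient by the kernel has the same order
  have hker : f.ker ⊓ B ≤ kerOn B (S.map ι) := fun b hb => mem_kerOn.2 ⟨hb.2, by
    rintro _ ⟨w, -, rfl⟩
    rw [← h, show f b = 1 from hb.1, one_smul]⟩
  have e1 : Nat.card (B.map f) * Nat.card ↥(f.ker ⊓ B) = Nat.card B := by
    rw [← Subgroup.relIndex_ker, ← Subgroup.inf_relIndex_right, mul_comm]
    have := Subgroup.relIndex_mul_relIndex ⊥ (f.ker ⊓ B) B bot_le inf_le_right
    rwa [Subgroup.relIndex_bot_left, Subgroup.relIndex_bot_left] at this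
  have e2 : Nat.card (kerOn (B.map f) S) * Nat.card ↥(f.ker ⊓ B) =
      Nat.card (kerOn B (S.map ι)) := by
    have heq : f.ker ⊓ kerOn B (S.map ι) = f.ker ⊓ B :=
      le_antisymm (inf_le_inf_left _ inf_le_left) (le_inf inf_le_left hker)
    rw [← map_kerOn f ι hι h, ← Subgroup.relIndex_ker, ← Subgroup.inf_relIndex_right, heq, mul_comm]
    have := Subgroup.relIndex_mul_relIndex ⊥ (f.ker ⊓ B) (kerOn B (S.map ι)) bot_le hker
    rwa [Subgroup.relIndex_bot_left, Subgroup.relIndex_bot_left] at this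
  have hcard : Nat.card S * Nat.card (kerOn (B.map f) S) ≤
      Nat.card (B.map f) * Nat.card ↥(S ⊓ fixV (B.map f)) ↔
      Nat.card (S.map ι) * Nat.card (kerOn B (S.map ι)) ≤
        Nat.card B * Nat.card ↥(S.map ι ⊓ fixV B) := by
    rw [← e1, ← e2, hU, hS, ← mul_assoc, mul_right_comm (Nat.card (B.map f))]
    exact ⟨fun hle => Nat.mul_le_mul_right _ hle, fun hle => Nat.le_of_mul_le_mul_right hle Nat.card_pos⟩
  exact ⟨fun H => ⟨(inv_map_iff f ι hι h B S).1 H.inv, hinvol.1 H.invol, fun h' => H.nontriv (hnt.2 h'),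
      hcard.1 H.card_le⟩,
    fun H => ⟨(inv_map_iff f ι hι h B S).2 H.inv, hinvol.2 H.invol, fun h' => H.nontriv (hnt.1 h'),
      hcard.2 H.card_le⟩⟩

theorem good_map_iff (P : Subgroup X) (S : AddSubgroup V') :
    Good (P.map f) S ↔ Good P (S.map ι) := by
  constructor
  · rintro ⟨hi, hP⟩
    exact ⟨(inv_map_iff f ι hι h P S).1 hi, fun B hB hoff =>
      hP (B.map f) (Subgroup.map_mono hB) ((offOn_map_iff f ι hι h B S).2 hoff)⟩
  · rintro ⟨hi, hP⟩
    refine ⟨(inv_map_iff f ι hι h P S).2 hi, fun B' hB' hoff => ?_⟩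
    have hB : (B'.comap f ⊓ P).map f = B' := by
      refine le_antisymm ((Subgroup.map_mono inf_le_left).trans (Subgroup.map_comap_le f B')) ?_
      intro z hz
      obtain ⟨x, hx, rfl⟩ := hB' hz
      exact ⟨x, ⟨hz, hx⟩, rfl⟩
    exact hP _ inf_le_right ((offOn_map_iff f ι hι h _ S).1 (hB.symm ▸ hoff))

theorem map_dGood [Finite X'] [Finite V] [Finite V'] (P : Subgroup X)
    (hle : (dGood P : AddSubgroup V) ≤ ι.range) :
    (dGood (P.map f) : AddSubgroup V').map ι = dGood P := by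
  refine le_antisymm (le_dGood ((good_map_iff f ι hι h P _).1 (good_dGood _))) ?_
  have h1 : ((dGood P : AddSubgroup V).comap ι).map ι = dGood P :=
    AddSubgroup.map_comap_eq_self hle
  conv_lhs => rw [← h1]
  refine AddSubgroup.map_mono (le_dGood ((good_map_iff f ι hι h P _).2 ?_))
  rw [h1]
  exact good_dGood P

end transfer

/-- Transport along a homomorphism of groups acting compatibly. -/
theorem dGood_map {X' : Type*} [Group X'] [Finite X'] [DistribMulAction X' V] [Finite X] [Finite V] (f : X →* X')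
    (h : ∀ (x : X) (v : V), f x • v = x • v) (P : Subgroup X) :
    (dGood (P.map f) : AddSubgroup V) = dGood P := by
  have := map_dGood f (AddMonoidHom.id V) (fun _ _ e => e) h P (fun v _ => ⟨v, rfl⟩)
  rwa [AddSubgroup.map_id] at this

/-- Conjugation of offenders. -/
theorem offOn_conj_iff [Finite X] (x : X) (B : Subgroup X) (S : AddSubgroup V) :
    OffOn (B.map (MulAut.conj x).toMonoidHom) (smulSub x S) ↔ OffOn B S := by
  have h := offOn_map_iff (X' := X) (MulAut.conj x).toMonoidHom (DistribSMul.toAddMonoidHom V x⁻¹)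
    (MulAction.injective x⁻¹) (fun y v => by
      show x⁻¹ • (x * y * x⁻¹) • v = y • x⁻¹ • v
      simp [← mul_smul, mul_assoc]) B (smulSub x S)
  rwa [show (smulSub x S).map (DistribSMul.toAddMonoidHom V x⁻¹) = S from smulSub_inv_smulSub x S] at h

theorem smulSub_dGood [Finite X] [Finite V] (x : X) (P : Subgroup X) :
    smulSub x (dGood P) = (dGood (P.map (MulAut.conj x).toMonoidHom) : AddSubgroup V) := by
  have h := map_dGood (X' := X) (MulAut.conj x).toMonoidHom (DistribSMul.toAddMonoidHom V x⁻¹)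
    (MulAction.injective x⁻¹) (fun y v => by
      show x⁻¹ • (x * y * x⁻¹) • v = y • x⁻¹ • v
      simp [← mul_smul, mul_assoc]) P (fun v _ => ⟨x • v, inv_smul_smul x v⟩)
  conv_lhs => rw [← h]
  have h2 := smulSub_inv_smulSub x⁻¹ (dGood (P.map (MulAut.conj x).toMonoidHom) : AddSubgroup V)
  rwa [inv_inv] at h2

theorem normalizer_le_stabS_dGood [Finite X] [Finite V] (P : Subgroup X) :
    Subgroup.normalizer (P : Set X) ≤ stabS (dGood P : AddSubgroup V) := fun x hx => by
  show smulSub x (dGood P) = dGood P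
  rw [smulSub_dGood]
  exact congrArg dGood (Subgroup.mem_normalizer_iff_map_conj_eq.1 hx)

end CfsgLib.NoOffender
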