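import Cfsg.Agent.NoOffender.Fusion
import Cfsg.Agent.NoOffender.Equivariant

/-!
The minimal configuration of a faithful action of an `S₃`-free group in which the largest good
subgroup for a Sylow `2`-subgroup is not invariant, and its contradiction.
-/

set_option autoImplicit false

universe u

namespace CfsgLib.NoOffender

open Cfsg Subgroup
open CfsgLib.ConjFunctor

/-- In groups of order less than `n` the largest good subgroup for a Sylow `2`-subgroup is
invariant. -/
def StabBound (n : ℕ) : Prop :=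
  ∀ (X : Type u) (V : Type u) [Group X] [AddCommGroup V] [DistribMulAction X V] [FaithfulSMul X V]
    [Finite X] [Finite V], Nat.card X < n → (∀ v : V, v + v = 0) →
    ¬ Involves (Equiv.Perm (Fin 3)) X → ∀ P : Sylow 2 X,
    stabS (X := X) (dGood (P : Subgroup X) : AddSubgroup V) = ⊤

section basics

variable {X V : Type*} [Group X] [AddCommGroup V] [DistribMulAction X V]

theorem smulSub_smulSub (x y : X) (S : AddSubgroup V) :
    smulSub x (smulSub y S) = smulSub (x * y) S := by
  ext v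
  rw [mem_smulSub, mem_smulSub, mem_smulSub, mul_inv_rev, mul_smul]

theorem smulSub_fixV (x : X) (B : Subgroup X) :
    smulSub x (fixV B : AddSubgroup V) = fixV (x *• B) := by
  ext v
  rw [mem_smulSub, mem_fixV, mem_fixV]
  constructor
  · rintro h _ ⟨b, hb, rfl⟩
    show (x * b * x⁻¹) • v = v
    rw [mul_smul, mul_smul, h b hb, smul_inv_smul]
  · intro h b hb
    have h1 : (x * b * x⁻¹) • v = v := h _ (conj_mem_cj x hb)
    rwa [mul_smul, mul_smul, smul_eq_iff_eq_inv_smul] at h1

theorem mem_fixV_sup {A B : Subgroup X} {v : V} (hA : v ∈ fixV A) (hB : v ∈ fixV B) :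
    v ∈ fixV (A ⊔ B) := fun x hx =>
  (sup_le (fun a ha => MulAction.mem_stabilizer_iff.2 (hA a ha))
    (fun b hb => MulAction.mem_stabilizer_iff.2 (hB b hb)) : A ⊔ B ≤ MulAction.stabilizer X v) hx

theorem OffOn.sq_eq_one [FaithfulSMul X V] {B : Subgroup X} (h : OffOn B (⊤ : AddSubgroup V)) {b : X}
    (hb : b ∈ B) : b * b = 1 :=
  eq_of_smul_eq_smul (α := V) fun v => by
    rw [mul_smul, one_smul]
    exact h.invol b hb v (AddSubgroup.mem_top v)

theorem OffOn.isPGroup [FaithfulSMul X V] {B : Subgroup X} (h : OffOn B (⊤ : AddSubgroup V)) :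
    IsPGroup 2 B := fun b => ⟨1, Subtype.ext (by
  rw [pow_one, sq]
  exact h.sq_eq_one b.2)⟩

theorem OffOn.isMulCommutative [FaithfulSMul X V] {B : Subgroup X}
    (h : OffOn B (⊤ : AddSubgroup V)) : IsMulCommutative B :=
  ⟨⟨fun a b => Subtype.ext (eq_of_smul_eq_smul (α := V) fun v => by
    simp only [Subgroup.coe_mul, mul_smul]
    exact smul_comm_of_invol h.inv h.invol a.2 b.2 (AddSubgroup.mem_top v))⟩⟩

theorem kerOn_top [FaithfulSMul X V] (B : Subgroup X) : kerOn B (⊤ : AddSubgroup V) = ⊥ :=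
  eq_bot_iff.2 fun x hx => eq_of_smul_eq_smul (α := V) fun v => by
    rw [one_smul]
    exact (mem_kerOn.1 hx).2 v (AddSubgroup.mem_top v)

theorem offOn_top_conj [Finite X] {B : Subgroup X} (x : X) (h : OffOn B (⊤ : AddSubgroup V)) :
    OffOn (x *• B) (⊤ : AddSubgroup V) := by
  have h1 := (offOn_conj_iff x B (⊤ : AddSubgroup V)).2 h
  rwa [show smulSub x (⊤ : AddSubgroup V) = ⊤ from
    eq_top_iff.2 fun v _ => mem_smulSub.2 (AddSubgroup.mem_top _)] at h1

theorem stabS_top : stabS (⊤ : AddSubgroup V) = (⊤ : Subgroup X) :=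
  eq_top_iff.2 fun _ _ => eq_top_iff.2 fun _ _ => mem_smulSub.2 (AddSubgroup.mem_top _)

theorem eq_top_of_invariant {D S : AddSubgroup V} (hgen : (⨆ x : X, smulSub x D) = ⊤)
    (hS : stabS S = (⊤ : Subgroup X)) (hle : D ≤ S) : S = ⊤ :=
  eq_top_iff.2 (hgen ▸ iSup_le fun x => (smulSub_mono x hle).trans
    (show smulSub x S = S from (hS ▸ Subgroup.mem_top x : x ∈ stabS S)).le)

end basics

/-- The action induced on a quotient by an invariant subgroup. -/
def quotHom {X V : Type*} [Group X] [AddCommGroup V] [DistribMulAction X V] (C : AddSubgroup V)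
    (hC : stabS C = (⊤ : Subgroup X)) : X →* AddMonoid.End (V ⧸ C) where
  toFun x := QuotientAddGroup.map C C (DistribSMul.toAddMonoidHom V x) fun _ hv =>
    (smul_mem_iff_of_mem_stabS (hC ▸ Subgroup.mem_top x)).2 hv
  map_one' := QuotientAddGroup.addMonoidHom_ext C (AddMonoidHom.ext fun v => by
    show QuotientAddGroup.mk ((1 : X) • v) = QuotientAddGroup.mk v
    rw [one_smul])
  map_mul' x y := QuotientAddGroup.addMonoidHom_ext C (AddMonoidHom.ext fun v => by
    show QuotientAddGroup.mk ((x * y) • v) = QuotientAddGroup.mk (x • y • v)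
    rw [mul_smul])

theorem quotHom_mk {X V : Type*} [Group X] [AddCommGroup V] [DistribMulAction X V]
    (C : AddSubgroup V) (hC : stabS C = (⊤ : Subgroup X)) (x : X) (v : V) :
    quotHom C hC x (QuotientAddGroup.mk v) = QuotientAddGroup.mk (x • v) := rfl

set_option maxHeartbeats 1600000 in
/-- The minimal configuration does not exist. -/
theorem step_false {n : ℕ} (hn : StabBound.{u} n) (hoff : OffBound.{u} n) {X V : Type u} [Group X]
    [AddCommGroup V] [DistribMulAction X V] [FaithfulSMul X V] [Finite X] [Finite V]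
    (hX : Nat.card X ≤ n) (hV : ∀ v : V, v + v = 0)
    (hfree : ¬ Involves (Equiv.Perm (Fin 3)) X) (P : Sylow 2 X)
    (hgen : (⨆ x : X, smulSub x (dGood (P : Subgroup X) : AddSubgroup V)) = ⊤)
    (hne : stabS (X := X) (dGood (P : Subgroup X) : AddSubgroup V) ≠ ⊤) : False := by
  classical
  set D : AddSubgroup V := dGood (P : Subgroup X) with hDdef
  set M : Subgroup X := stabS D with hM
  have hPM : (P : Subgroup X) ≤ M := inv_iff_le_stabS.1 (good_dGood _).1
  have hPsyl : IsSylowIn 2 (P : Subgroup X) M := (isSylowIn_top P).of_le hPM le_top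
  -- a minimal offender in `P`
  obtain ⟨B₀, hB₀P, hB₀⟩ : ∃ B, B ≤ (P : Subgroup X) ∧ OffOn B (⊤ : AddSubgroup V) := by
    by_contra! h
    refine hne ?_
    rw [hM, show D = ⊤ from eq_top_iff.2
      (le_dGood ⟨fun _ _ _ _ => trivial, fun B hB => h B hB⟩), stabS_top]
  obtain ⟨B, hBB₀, hmin⟩ := exists_minOff hB₀
  have hBP : B ≤ (P : Subgroup X) := hBB₀.trans hB₀P
  have hBM : B ≤ M := hBP.trans hPM
  have hDU : D ≤ fixV B := (good_dGood _).le_fixV hBP hmin le_top
  haveI := hmin.1.isMulCommutative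
  have hquad := hmin.quad hV
  -- `O₂` contains no offender
  set R := pCore 2 X with hR
  have hRP : R ≤ (P : Subgroup X) := PLocal.pCore_le_sylow P
  have hR0 : ∀ E ≤ R, ¬ OffOn E (⊤ : AddSubgroup V) := by
    intro E hE hEoff
    obtain ⟨E', hE', hmin'⟩ := exists_minOff hEoff
    refine hmin'.1.nontriv (hgen ▸ iSup_le fun x => ?_)
    rw [smulSub_dGood]
    refine (good_dGood _).le_fixV ((hE'.trans hE).trans ?_) hmin' le_top
    intro r hr
    rw [mem_cj]
    refine hRP ?_
    simpa using (inferInstance : R.Normal).conj_mem r hr x⁻¹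
  -- a proper subgroup containing an offender inside `M` lies in `M`
  have hmemP : ∀ H : Subgroup X, H ≠ ⊤ → (∃ E ≤ H ⊓ (P : Subgroup X), OffOn E (⊤ : AddSubgroup V)) →
      H ≤ M := by
    by_contra! hbad
    obtain ⟨H, ⟨hH, ⟨E, hE, hEoff⟩, hHM⟩, hmax⟩ := Set.exists_max_image
      {H : Subgroup X | H ≠ ⊤ ∧ (∃ E ≤ H ⊓ (P : Subgroup X), OffOn E (⊤ : AddSubgroup V)) ∧ ¬ H ≤ M}
      (fun H => Nat.card ↥(H ⊓ (P : Subgroup X))) (Set.toFinite _) hbad
    set Q := H ⊓ (P : Subgroup X) with hQ
    set L : Subgroup X := stabS (dGood Q : AddSubgroup V) with hL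
    have hDQ : D ≤ dGood Q := le_dGood ((good_dGood _).anti inf_le_right)
    have hLne : L ≠ ⊤ := fun h => (good_dGood (V := V) Q).2 E hE
      ((eq_top_of_invariant hgen h hDQ).symm ▸ hEoff)
    have hNL : normalizer (Q : Set X) ≤ L := normalizer_le_stabS_dGood Q
    have hQL : Q ≤ L := le_normalizer.trans hNL
    have hLM : L ≤ M := by
      rcases eq_or_lt_of_le (inf_le_right : Q ≤ (P : Subgroup X)) with heq | hlt
      · rw [hL, hM, hDdef, show Q = (P : Subgroup X) from heq]
      · by_contra hLM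
        have h1 := lt_inf_normalizer P.2 hlt
        have h2 := hmax L ⟨hLne, ⟨E, le_inf (hE.trans hQL) (hE.trans inf_le_right), hEoff⟩, hLM⟩
        have h3 : (P : Subgroup X) ⊓ normalizer (Q : Set X) ≤ L ⊓ (P : Subgroup X) :=
          le_inf (inf_le_right.trans hNL) inf_le_left
        exact h1.ne (eq_of_le_of_card_ge h1.le ((card_le_of_le h3).trans h2))
    have hQp : IsPGroup 2 Q := P.2.to_le inf_le_right
    obtain ⟨T, hQT, hT⟩ := exists_isSylowIn_ge (inf_le_left : Q ≤ H) hQp
    have hTQ : T = Q := by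
      by_contra hTne
      have hlt := lt_inf_normalizer hT.2.1 (lt_of_le_of_ne hQT (Ne.symm hTne))
      set Q' := T ⊓ normalizer (Q : Set X) with hQ'
      obtain ⟨m, hm, hmQ⟩ := hPsyl.exists_cj_le ((inf_le_right : Q' ≤ _).trans (hNL.trans hLM))
        (hT.2.1.to_le inf_le_left)
      have h1 : Nat.card Q < Nat.card ↥(m *• Q') := by
        rw [card_cj]
        exact lt_of_le_of_ne (card_le_of_le hlt.le) fun he =>
          hlt.ne (eq_of_le_of_card_ge hlt.le he.ge)
      have h2 : m *• Q' ≤ m *• H ⊓ (P : Subgroup X) :=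
        le_inf (cj_mono m (inf_le_left.trans hT.1)) hmQ
      refine absurd (hmax (m *• H) ⟨?_, ⟨m *• E, (cj_mono m (hE.trans hlt.le)).trans h2,
        offOn_top_conj m hEoff⟩, ?_⟩) (not_le.2 (lt_of_lt_of_le h1 (card_le_of_le h2)))
      · intro h
        exact hH (by rw [← cj_inv_cj m H, h]; exact map_top_of_surjective _ (MulAut.conj m⁻¹).surjective)
      · intro h
        refine hHM fun x hx => ?_
        have := mul_mem (mul_mem (inv_mem hm) (cj_le_iff.1 h x hx)) hm
        simpa [mul_assoc] using this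
    rw [hTQ] at hT
    have hcard : Nat.card H < n := lt_of_lt_of_le
      (lt_of_le_of_ne (Nat.le_of_dvd Nat.card_pos (card_subgroup_dvd_card H))
        fun he => hH (eq_top_of_card_eq H he)) hX
    have hIH := hn H V hcard hV (fun h => hfree (involves_trans (involves_subgroup H) h))
      (isSylowIn_subgroupOf hT).toSylowTop
    have heq : (dGood (Q.subgroupOf H) : AddSubgroup V) = dGood Q := by
      have := dGood_map (V := V) H.subtype (fun _ _ => rfl) (Q.subgroupOf H)
      rwa [map_subgroupOf_eq_of_le hT.1, eq_comm] at this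
    refine hHM (le_trans ?_ hLM)
    intro x hx
    have h4 : (⟨x, hx⟩ : H) ∈ stabS (dGood (Q.subgroupOf H) : AddSubgroup V) := by
      rw [show stabS (dGood (Q.subgroupOf H) : AddSubgroup V) = (⊤ : Subgroup H) from hIH]
      trivial
    show smulSub x (dGood Q : AddSubgroup V) = dGood Q
    conv_rhs => rw [← heq]
    rw [← show smulSub (⟨x, hx⟩ : H) (dGood (Q.subgroupOf H) : AddSubgroup V) = _ from h4, heq]
    rfl
  have hmem : ∀ H : Subgroup X, H ≠ ⊤ → ∀ E, OffOn E (⊤ : AddSubgroup V) → E ≤ H → E ≤ M →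
      H ≤ M := by
    intro H hH E hEoff hEH hEM
    obtain ⟨m, hm, hmE⟩ := hPsyl.exists_cj_le hEM hEoff.isPGroup
    have h := hmemP (m *• H) (fun h => hH (by
        rw [← cj_inv_cj m H, h]; exact map_top_of_surjective _ (MulAut.conj m⁻¹).surjective))
      ⟨m *• E, le_inf (cj_mono m hEH) hmE, offOn_top_conj m hEoff⟩
    intro x hx
    have := mul_mem (mul_mem (inv_mem hm) (cj_le_iff.1 h x hx)) hm
    simpa [mul_assoc] using this
  -- conjugates of `B` outside `M`
  have hout : ∀ g : X, g *• B ≤ M → g ∈ M := by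
    intro g hg
    have h1 : g *• M ≤ M := hmem _ (fun h => hne (by
        rw [← cj_inv_cj g M, h]; exact map_top_of_surjective _ (MulAut.conj g⁻¹).surjective))
      _ (offOn_top_conj g hmin.1) (cj_mono g hBM) hg
    obtain ⟨m, hm, hm'⟩ := hPsyl.exists_cj_le ((cj_mono g hPM).trans h1) (isPGroup_cj g P.2)
    have h2 : m * g ∈ normalizer ((P : Subgroup X) : Set X) :=
      mem_normalizer_of_cj_le (by rw [← cj_cj]; exact hm')
    simpa using mul_mem (inv_mem hm) (normalizer_le_stabS_dGood (V := V) _ h2)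
  have hjoin : ∀ g : X, g ∉ M → B ⊔ g *• B = ⊤ := by
    intro g hg
    by_contra h
    exact hg (hout g (le_sup_right.trans (hmem _ h B hmin.1 le_sup_left hBM)))
  set U : AddSubgroup V := fixV B with hU
  set C : AddSubgroup V := fixV (⊤ : Subgroup X) with hC
  have hCfix : ∀ x : X, ∀ c ∈ C, x • c = c := fun x c hc => hc x trivial
  have hCinv : stabS C = (⊤ : Subgroup X) :=
    eq_top_iff.2 (inv_iff_le_stabS.1 fun x _ c hc => (hCfix x c hc).symm ▸ hc)
  have hinf : ∀ g : X, g ∉ M → ∀ v, v ∈ U → v ∈ fixV (g *• B) → v ∈ C := by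
    intro g hg v h1 h2
    rw [hC, ← hjoin g hg]
    exact mem_fixV_sup h1 h2
  have hsup : ∀ g : X, g ∉ M → U ⊔ fixV (g *• B) = ⊤ := by
    intro g hg
    refine eq_top_of_invariant hgen ?_ (hDU.trans le_sup_left)
    rw [eq_top_iff, ← hjoin g hg, sup_le_iff]
    constructor <;> refine inv_iff_le_stabS.1 fun b hb v hv => ?_
    all_goals obtain ⟨u, hu, w, hw, rfl⟩ := AddSubgroup.mem_sup.1 hv
    · rw [smul_add, hu b hb]
      refine AddSubgroup.mem_sup.2 ⟨u + (b • w - w), add_mem hu fun a ha => ?_, w, hw, by abel⟩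
      exact hquad b hb a ha w trivial
    · rw [smul_add, hw b hb]
      obtain ⟨b₀, hb₀, rfl⟩ := hb
      refine AddSubgroup.mem_sup.2 ⟨u, hu, (g * b₀ * g⁻¹) • u - u + w, add_mem ?_ hw, by
        show _ = (g * b₀ * g⁻¹) • u + w
        abel⟩
      rintro _ ⟨a, ha, rfl⟩
      show (g * a * g⁻¹) • ((g * b₀ * g⁻¹) • u - u) = (g * b₀ * g⁻¹) • u - u
      have h := hquad b₀ hb₀ a ha (g⁻¹ • u) trivial
      calc (g * a * g⁻¹) • ((g * b₀ * g⁻¹) • u - u)
          = g • a • (b₀ • g⁻¹ • u - g⁻¹ • u) := by simp [mul_smul, smul_sub]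
        _ = _ := by rw [h]; simp [mul_smul, smul_sub]
  -- `R ∩ B` acts as transvections with centre `C`
  have hRC : ∀ r ∈ B ⊓ R, ∀ v : V, r • v - v ∈ C := by
    intro r hr v
    let Sr : AddSubgroup V := C.comap (DistribSMul.toAddMonoidHom V r - AddMonoidHom.id V)
    refine (hgen ▸ iSup_le fun x => ?_ : (⊤ : AddSubgroup V) ≤ Sr) (AddSubgroup.mem_top v)
    intro w hw
    show r • w - w ∈ C
    by_cases hx : x ∈ M
    · rw [show smulSub x D = D from hx] at hw
      rw [hDU hw r hr.1, sub_self]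
      exact zero_mem C
    · refine hinf x hx _ (fun a ha => hquad r hr.1 a ha w trivial) ?_
      have hrx : r ∈ x *• (P : Subgroup X) := by
        rw [mem_cj]
        refine hRP ?_
        simpa using (inferInstance : R.Normal).conj_mem r hr.2 x⁻¹
      have hrw : r • w ∈ smulSub x D := by
        rw [smulSub_dGood] at hw ⊢
        exact (good_dGood _).1 r hrx w hw
      rw [← smulSub_fixV]
      exact smulSub_mono x hDU (sub_mem hrw hw)
  -- fusion modulo `R`
  have hcore : ∀ g : X, g ∉ M → ∀ b ∈ g *• B, b ∈ M → b ∈ R := by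
    intro g hg b hb hbM
    set π := QuotientGroup.mk' R with hπ
    have hπs : Function.Surjective π := QuotientGroup.mk'_surjective R
    have hcomap : (M.map π).comap π = M := by
      rw [comap_map_eq, QuotientGroup.ker_mk', sup_eq_left]
      exact hRP.trans hPM
    have hcardq : Nat.card (X ⧸ R) ≤ n :=
      (card_le_of_involves (involves_quotient R)).trans hX
    have hS4 : ¬ Involves (Equiv.Perm (Fin 4)) (X ⧸ R) := fun h => hfree
      (involves_trans (involves_trans (involves_quotient R) h)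
        (involves_of_surjective Cfsg.Agent.S2759.toS3 Cfsg.Agent.S2759.toS3_surjective))
    haveI : IsMulCommutative ↥(B.map π) := PLocal.isMulCommutative_map ‹_› π
    have hcjmap : ∀ x : X, π x *• B.map π = (x *• B).map π := fun x => by
      ext z
      constructor
      · rintro ⟨_, ⟨a, ha, rfl⟩, rfl⟩
        exact ⟨x * a * x⁻¹, conj_mem_cj x ha, by simp⟩
      · rintro ⟨_, ⟨a, ha, rfl⟩, rfl⟩
        exact ⟨π a, ⟨a, ha, rfl⟩, by simp⟩
    refine (QuotientGroup.eq_one_iff b).1 (eq_one_of_mem_conj (hoff.mono hcardq) hS4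
      (PLocal.pCore_quotient_pCore_eq_bot 2 X) (P.mapSurjective hπs) (M := M.map π) (B := B.map π)
      (by rw [Sylow.coe_mapSurjective]; exact map_mono hPM)
      (by rw [Sylow.coe_mapSurjective]; exact map_mono hBP) ?_ (g := π g) ?_
      (by rw [hcjmap]; exact ⟨b, hb, rfl⟩) ⟨b, hbM, rfl⟩)
    · intro H hH x hxH hxM
      obtain ⟨x, rfl⟩ := hπs x
      rw [hcjmap, map_le_iff_le_comap] at hxH hxM
      rw [hcomap] at hxM
      have := hmem (H.comap π) (fun h => hH (by
          rw [← map_comap_eq_self_of_surjective hπs H, h, map_top_of_surjective _ hπs]))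
        _ (offOn_top_conj x hmin.1) hxH hxM
      rw [← map_comap_eq_self_of_surjective hπs H]
      exact map_mono this
    · intro h
      exact hg (hcomap ▸ (mem_comap.2 h : g ∈ (M.map π).comap π))
  -- commutators of elements outside `R` leave `C`
  have hclean : ∀ g : X, g ∉ M → ∀ u ∈ U, u ∉ C → ∀ b ∈ g *• B, b ∉ R → b • u - u ∉ C := by
    intro g hg u hu huC b hb hbR hc
    set H := MulAction.stabilizer X u with hH
    have hHne : H ≠ ⊤ := fun h => huC fun x _ => (h ▸ mem_top x : x ∈ H)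
    have hBH : B ≤ H := fun a ha => hu a ha
    refine hbR (hcore g hg b hb (hout b (le_trans ?_ (hmem H hHne B hmin.1 hBH hBM))))
    rintro _ ⟨a, ha, rfl⟩
    show (b * a * b⁻¹) • u = u
    have h1 : b⁻¹ • u = u - (b • u - u) := by
      rw [inv_smul_eq_iff, smul_sub, hCfix b _ hc]
      abel
    calc (b * a * b⁻¹) • u = b • a • (u - (b • u - u)) := by rw [mul_smul, mul_smul, h1]
      _ = b • (u - (b • u - u)) := by rw [smul_sub, hu a ha, hCfix a _ hc]
      _ = u := by rw [← h1, smul_inv_smul]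
  have hclean' : ∀ g : X, g ∉ M → ∀ w ∈ fixV (g *• B), w ∉ C → ∀ a ∈ B, a ∉ R → a • w - w ∉ C := by
    intro g hg w hw hwC a ha haR hc
    refine hclean g⁻¹ (fun h => hg (inv_mem_iff.1 h)) (g⁻¹ • w) ?_ ?_ (g⁻¹ * a * g)
      (mem_cj.2 (by simpa [mul_assoc] using ha)) ?_ ?_
    · rw [← smulSub_fixV, mem_smulSub] at hw
      exact hw
    · intro h
      have := hCfix g _ h
      rw [smul_inv_smul] at this
      exact hwC (this ▸ h)
    · intro h
      refine haR ?_
      simpa [mul_assoc] using (inferInstance : R.Normal).conj_mem _ h g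
    · rw [mul_smul, mul_smul, smul_inv_smul, ← smul_sub, hCfix _ _ hc]
      exact hc
  -- fix a conjugate
  obtain ⟨g, -, hg⟩ := SetLike.exists_of_lt (lt_top_iff_ne_top.2 hne)
  set B' := g *• B with hB'
  set W : AddSubgroup V := fixV B' with hW
  have hWU : smulSub g U = W := smulSub_fixV g B
  obtain ⟨a₀, ha₀, ha₀R⟩ := SetLike.not_le_iff_exists.1 fun h : B ≤ R => hR0 B h hmin.1
  -- the group of homomorphisms
  set ρ := quotHom C hCinv with hρ
  let N : AddSubgroup ((V ⧸ C) →+ C) :=
    { carrier := {f | ∃ r ∈ R, ∀ v : V, ((f (QuotientAddGroup.mk v) : C) : V) = r • v - v}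
      zero_mem' := ⟨1, one_mem R, fun v => by simp⟩
      add_mem' := by
        rintro f f' ⟨r, hr, hf⟩ ⟨r', hr', hf'⟩
        refine ⟨r * r', mul_mem hr hr', fun v => ?_⟩
        rw [AddMonoidHom.add_apply, AddSubgroup.coe_add, hf, hf', mul_smul]
        have h1 : r • (r' • v - v) = r' • v - v := by
          rw [← hf']
          exact hCfix r _ (f' _).2
        rw [smul_sub] at h1
        calc r • v - v + (r' • v - v) = r • v - v + (r • r' • v - r • v) := by rw [h1]
          _ = r • r' • v - v := by abel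
      neg_mem' := by
        rintro f ⟨r, hr, hf⟩
        refine ⟨r⁻¹, inv_mem hr, fun v => ?_⟩
        have h1 : r⁻¹ • (r • v - v) = r • v - v := by
          rw [← hf]
          exact hCfix r⁻¹ _ (f _).2
        rw [smul_sub, inv_smul_smul] at h1
        rw [AddMonoidHom.neg_apply, AddSubgroup.coe_neg, hf, ← h1]
        abel }
  have hfun : ∀ r : X, (∀ v : V, r • v - v ∈ C) →
      ∃ f : (V ⧸ C) →+ C, ∀ v : V, ((f (QuotientAddGroup.mk v) : C) : V) = r • v - v := by
    intro r hr
    refine ⟨QuotientAddGroup.lift C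
      ((DistribSMul.toAddMonoidHom V r - AddMonoidHom.id V).codRestrict C hr)
      (fun c hc => Subtype.ext (by
        show r • c - c = 0
        rw [hCfix r c hc, sub_self])), fun v => rfl⟩
  -- lower bound for `|N|`
  have hmemB' : ∀ r ∈ B' ⊓ R, ∀ v : V, r • v - v ∈ C := by
    rintro r ⟨⟨r₀, hr₀, rfl⟩, hrR⟩ v
    have hr₀R : r₀ ∈ R := by
      simpa [mul_assoc] using (inferInstance : R.Normal).conj_mem _ hrR g⁻¹
    have h := hRC r₀ ⟨hr₀, hr₀R⟩ (g⁻¹ • v)
    have h' := hCfix g _ h
    rw [smul_sub, smul_inv_smul] at h'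
    show (g * r₀ * g⁻¹) • v - v ∈ C
    rw [mul_smul, mul_smul, h']
    exact h
  have hprod : ∀ r ∈ B ⊓ R, ∀ s ∈ B' ⊓ R, ∀ v : V, (r * s) • v - v ∈ C := by
    intro r hr s hs v
    rw [mul_smul, show r • s • v - v = (r • (s • v) - s • v) + (s • v - v) by abel]
    exact add_mem (hRC r hr _) (hmemB' s hs v)
  choose F hF using hfun
  let φ : ↥(B ⊓ R) × ↥(B' ⊓ R) → N := fun p =>
    ⟨F _ (hprod p.1 p.1.2 p.2 p.2.2), _, mul_mem p.1.2.2 p.2.2.2, hF _ _⟩
  have hφ : Function.Injective φ := by
    intro p q hpq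
    have h1 : (p.1 : X) * p.2 = q.1 * q.2 := eq_of_smul_eq_smul (α := V) fun v => by
      have h2 := congrArg (fun f : N => (((f : (V ⧸ C) →+ C) (QuotientAddGroup.mk v) : C) : V)) hpq
      simp only [φ, hF, sub_left_inj] at h2
      exact h2
    have h3 : (q.1 : X)⁻¹ * p.1 = q.2 * (p.2 : X)⁻¹ := by
      rw [inv_mul_eq_iff_eq_mul, ← mul_assoc, ← h1, mul_inv_cancel_right]
    have h4 : (q.1 : X)⁻¹ * p.1 = 1 := eq_of_smul_eq_smul (α := V) fun v => by
      rw [one_smul]
      obtain ⟨u, hu, w, hw, rfl⟩ :=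
        AddSubgroup.mem_sup.1 (hsup g hg ▸ AddSubgroup.mem_top v : v ∈ U ⊔ fixV (g *• B))
      rw [smul_add, hu _ (mul_mem (inv_mem q.1.2.1) p.1.2.1), h3,
        hw _ (mul_mem q.2.2.1 (inv_mem p.2.2.1))]
    have h5 : (p.1 : X) = q.1 := (inv_mul_eq_one.1 h4).symm
    rw [h5] at h1
    exact Prod.ext (Subtype.ext h5) (Subtype.ext (mul_left_cancel h1))
  have hcardB' : Nat.card ↥(B' ⊓ R) = Nat.card ↥(B ⊓ R) := by
    rw [← card_cj g (B ⊓ R), cj_inf, cj_eq_of_mem_normalizer
      (show g ∈ normalizer (R : Set X) by rw [normalizer_eq_top]; exact mem_top g)]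
  have hNcard : Nat.card ↥(B ⊓ R) * Nat.card ↥(B ⊓ R) ≤ Nat.card N := by
    conv_lhs => arg 2; rw [← hcardB']
    rw [← Nat.card_prod]
    exact Nat.card_le_card_of_injective φ hφ
  -- the ring
  set S := Subring.closure (Set.range ρ) with hS
  have hNS : ∀ f ∈ N, ∀ q ∈ S, AddMonoidHom.comp f q ∈ N := by
    suffices H : ∀ q ∈ S, ∀ f ∈ N, AddMonoidHom.comp f q ∈ N from fun f hf q hq => H q hq f hf
    intro q hq
    induction hq using Subring.closure_induction with
    | mem q hq =>
      obtain ⟨x, rfl⟩ := hq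
      rintro f ⟨r, hr, hf⟩
      refine ⟨x⁻¹ * r * x, by simpa using (inferInstance : R.Normal).conj_mem r hr x⁻¹, fun v => ?_⟩
      show ((f (ρ x (QuotientAddGroup.mk v)) : C) : V) = _
      rw [hρ, quotHom_mk, hf]
      have h1 : x⁻¹ • (r • x • v - x • v) = r • x • v - x • v := by
        rw [← hf]; exact hCfix x⁻¹ _ (f _).2
      rw [← h1, smul_sub, inv_smul_smul, mul_smul, mul_smul]
    | zero => intro f _; convert zero_mem N; exact AddMonoidHom.ext fun a => map_zero f
    | one => intro f hf; exact hf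
    | add a b _ _ iha ihb =>
      intro f hf
      convert add_mem (iha f hf) (ihb f hf)
      exact AddMonoidHom.ext fun z => map_add f (a z) (b z)
    | neg a _ iha =>
      intro f hf
      convert neg_mem (iha f hf)
      exact AddMonoidHom.ext fun z => map_neg f (a z)
    | mul a b _ _ iha ihb => intro f hf; exact ihb _ (iha f hf)
  -- no offender inside `R`
  have hstrict : ∀ E ≤ N, E ≠ ⊥ → ∀ K : AddSubgroup (V ⧸ C), (∀ f ∈ E, ∀ v ∈ K, f v = 0) →
      Nat.card E * Nat.card K < Nat.card (V ⧸ C) := by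
    intro E hE hEne K hK
    by_contra hge
    let E₀ : Subgroup X :=
      { carrier := {r | r ∈ R ∧ ∃ f ∈ E, ∀ v : V, ((f (QuotientAddGroup.mk v) : C) : V) = r • v - v}
        one_mem' := ⟨one_mem R, 0, zero_mem E, fun v => by simp⟩
        mul_mem' := by
          rintro r r' ⟨hr, f, hfE, hf⟩ ⟨hr', f', hfE', hf'⟩
          refine ⟨mul_mem hr hr', f + f', add_mem hfE hfE', fun v => ?_⟩
          rw [AddMonoidHom.add_apply, AddSubgroup.coe_add, hf, hf', mul_smul]
          have h1 : r • (r' • v - v) = r' • v - v := by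
            rw [← hf']
            exact hCfix r _ (f' _).2
          rw [smul_sub] at h1
          calc r • v - v + (r' • v - v) = r • v - v + (r • r' • v - r • v) := by rw [h1]
            _ = r • r' • v - v := by abel
        inv_mem' := by
          rintro r ⟨hr, f, hfE, hf⟩
          refine ⟨inv_mem hr, -f, neg_mem hfE, fun v => ?_⟩
          have h1 : r⁻¹ • (r • v - v) = r • v - v := by
            rw [← hf]
            exact hCfix r⁻¹ _ (f _).2
          rw [smul_sub, inv_smul_smul] at h1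
          rw [AddMonoidHom.neg_apply, AddSubgroup.coe_neg, hf, ← h1]
          abel }
    have hcardE : Nat.card E ≤ Nat.card E₀ := by
      refine Nat.card_le_card_of_injective (fun f : E => (⟨Classical.choose (hE f.2),
        (Classical.choose_spec (hE f.2)).1, f, f.2, (Classical.choose_spec (hE f.2)).2⟩ : E₀)) ?_
      intro f f' hff
      refine Subtype.ext (AddMonoidHom.ext fun z => ?_)
      obtain ⟨v, rfl⟩ := QuotientAddGroup.mk_surjective z
      refine Subtype.ext ?_
      rw [(Classical.choose_spec (hE f.2)).2, (Classical.choose_spec (hE f'.2)).2,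
        show Classical.choose (hE f.2) = Classical.choose (hE f'.2) from congrArg Subtype.val hff]
    refine hR0 E₀ (fun r hr => hr.1) ⟨fun _ _ _ _ => trivial, ?_, ?_, ?_⟩
    · rintro r ⟨-, f, -, hf⟩ v -
      have h1 : r • (r • v - v) = r • v - v := by
        rw [← hf]
        exact hCfix r _ (f _).2
      rw [smul_sub] at h1
      calc r • r • v = (r • r • v - r • v) + r • v := by abel
        _ = (r • v - v) + r • v := by rw [h1]
        _ = (r • v + r • v) - v := by abel
        _ = -v := by rw [hV, zero_sub]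
        _ = v := neg_eq_of_add_eq_zero_left (hV v)
    · intro h
      refine hEne (eq_bot_iff.2 fun f hf => ?_)
      obtain ⟨r, hr, hf'⟩ := hE hf
      refine AddSubgroup.mem_bot.2 (AddMonoidHom.ext fun z => ?_)
      obtain ⟨v, rfl⟩ := QuotientAddGroup.mk_surjective z
      refine Subtype.ext ?_
      rw [hf', h (AddSubgroup.mem_top v) r ⟨hr, f, hf, hf'⟩, sub_self]
      rfl
    · rw [kerOn_top, Subgroup.card_bot, mul_one, top_inf_eq, AddSubgroup.card_top,
        C.card_eq_card_quotient_mul_card_addSubgroup]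
      have hK0 : Nat.card (K.comap (QuotientAddGroup.mk' C)) ≤
          Nat.card (fixV E₀ : AddSubgroup V) := by
        refine AddSubgroup.card_le_of_le fun v hv r hr => ?_
        obtain ⟨-, f, hfE, hf⟩ := hr
        have h1 := hf v
        rw [hK f hfE (QuotientAddGroup.mk v) hv, AddSubgroup.coe_zero] at h1
        exact sub_eq_zero.1 h1.symm
      rw [show Nat.card (K.comap (QuotientAddGroup.mk' C)) = Nat.card C * Nat.card K by
        have h1 := AddSubgroup.card_mul_index (K.comap (QuotientAddGroup.mk' C))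
        rw [AddSubgroup.index_comap_of_surjective _ (QuotientAddGroup.mk'_surjective C),
          C.card_eq_card_quotient_mul_card_addSubgroup, ← K.card_mul_index] at h1
        exact Nat.eq_of_mul_eq_mul_right (Nat.pos_of_ne_zero AddSubgroup.FiniteIndex.index_ne_zero)
          (h1.trans (by ring))] at hK0
      calc Nat.card (V ⧸ C) * Nat.card C ≤ Nat.card E * Nat.card K * Nat.card C :=
            Nat.mul_le_mul_right _ (not_lt.1 hge)
        _ ≤ Nat.card E₀ * (Nat.card C * Nat.card K) := by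
            rw [mul_assoc, mul_comm (Nat.card K)]
            exact Nat.mul_le_mul_right _ hcardE
        _ ≤ _ := Nat.mul_le_mul_left _ hK0
  -- an irreducible subgroup of `V/C`
  have hVne : (⊤ : AddSubgroup (V ⧸ C)) ≠ ⊥ := by
    intro h
    refine hmin.1.nontriv fun v _ b hb => ?_
    have : (QuotientAddGroup.mk v : V ⧸ C) ∈ (⊥ : AddSubgroup (V ⧸ C)) := h ▸ AddSubgroup.mem_top _
    exact hCfix b v ((QuotientAddGroup.eq_zero_iff v).1 (AddSubgroup.mem_bot.1 this))
  obtain ⟨Y, ⟨hY0, hYinv⟩, hYmin⟩ := Set.exists_min_image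
    {Y : AddSubgroup (V ⧸ C) | Y ≠ ⊥ ∧ ∀ q ∈ S, ∀ y ∈ Y, q y ∈ Y} (fun Y => Nat.card Y)
    (Set.toFinite _) ⟨⊤, hVne, fun _ _ _ _ => trivial⟩
  have hmain := card_mul_card_le N S hNS hstrict hYinv fun Y' hle hne' hinv' =>
    AddSubgroup.eq_of_le_of_card_ge hle (hYmin Y' ⟨hne', hinv'⟩)
  -- the two halves of `Y`
  set mk := QuotientAddGroup.mk' C with hmk
  have hYx : ∀ x : X, ∀ v, mk v ∈ Y → mk (x • v) ∈ Y := fun x v hv =>
    hYinv (ρ x) (Subring.subset_closure ⟨x, rfl⟩) _ hv
  set UY := U ⊓ Y.comap mk with hUY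
  set WY := W ⊓ Y.comap mk with hWY
  have hWYeq : smulSub g UY = WY := by
    ext v
    rw [mem_smulSub]
    constructor
    · rintro ⟨h1, h2⟩
      refine ⟨hWU ▸ mem_smulSub.2 h1, ?_⟩
      have := hYx g _ h2
      rwa [smul_inv_smul] at this
    · rintro ⟨h1, h2⟩
      exact ⟨mem_smulSub.1 (hWU.symm ▸ h1), hYx g⁻¹ _ h2⟩
  have hcardUW : Nat.card (WY.map mk) = Nat.card (UY.map mk) := by
    have hinj : Function.Injective (ρ g) := fun z z' h => by
      have := congrArg (ρ g⁻¹) h
      change (ρ g⁻¹ * ρ g) z = (ρ g⁻¹ * ρ g) z' at this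
      rw [← map_mul, inv_mul_cancel, map_one] at this
      exact this
    let L : V ⧸ C →+ V ⧸ C := ρ g
    rw [← hWYeq, smulSub, AddSubgroup.map_map,
      show mk.comp (DistribSMul.toAddMonoidHom V g) = L.comp mk from rfl, ← AddSubgroup.map_map]
    exact (Nat.card_congr ((UY.map mk).equivMapOfInjective _ hinj).toEquiv).symm
  have hinfbar : UY.map mk ⊓ WY.map mk = ⊥ := by
    refine eq_bot_iff.2 ?_
    rintro z ⟨⟨u, hu, rfl⟩, ⟨w, hw, hwu⟩⟩
    have h1 : -u + w ∈ C := QuotientAddGroup.eq.1 hwu.symm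
    refine AddSubgroup.mem_bot.2 ((QuotientAddGroup.eq_zero_iff u).2 (hinf g hg u hu.1 ?_))
    have h2 : w - (-u + w) ∈ W := sub_mem hw.1 (fixV_anti le_top h1)
    exact (by simpa using h2 : u ∈ W)
  have hprodle : Nat.card (UY.map mk) * Nat.card (UY.map mk) ≤ Nat.card Y := by
    conv_lhs => arg 2; rw [← hcardUW]
    rw [← card_sup_mul_card_inf, hinfbar, AddSubgroup.card_bot, mul_one]
    exact AddSubgroup.card_le_of_le (sup_le (AddSubgroup.map_le_iff_le_comap.2 inf_le_right)
      (AddSubgroup.map_le_iff_le_comap.2 inf_le_right))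
  -- a fixed point
  obtain ⟨u₀, hu₀, hu₀C⟩ : ∃ u ∈ UY, u ∉ C := by
    have hBinv : ∀ b ∈ B, ∀ v, mk v ∈ Y → mk (b • v) ∈ Y := fun b _ => hYx b
    letI : MulAction B Y :=
      { smul := fun b y => ⟨ρ b y, hYinv (ρ b) (Subring.subset_closure ⟨b, rfl⟩) _ y.2⟩
        one_smul := fun y => Subtype.ext (show ρ ((1 : B) : X) y = (y : V ⧸ C) by simp)
        mul_smul := fun a b y => Subtype.ext
          (show ρ ((a * b : B) : X) y = ρ a (ρ b y) by simp) }
    have hdvd : 2 ∣ Nat.card Y := by
      obtain ⟨z, hz, hz0⟩ := (AddSubgroup.bot_or_exists_ne_zero Y).resolve_left hY0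
      have h2 : addOrderOf (⟨z, hz⟩ : Y) = 2 := by
        refine addOrderOf_eq_prime ?_ fun h => hz0 (congrArg Subtype.val h)
        refine Subtype.ext ?_
        obtain ⟨v, rfl⟩ := QuotientAddGroup.mk_surjective z
        show 2 • (QuotientAddGroup.mk v : V ⧸ C) = 0
        rw [two_nsmul, ← QuotientAddGroup.mk_add, hV]
        rfl
      exact h2 ▸ addOrderOf_dvd_natCard _
    have h0 : (0 : Y) ∈ MulAction.fixedPoints B Y := fun b => Subtype.ext (map_zero (ρ b))
    obtain ⟨y, hy, hy0⟩ :=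
      hmin.1.isPGroup.exists_fixed_point_of_prime_dvd_card_of_fixed_point Y hdvd h0
    obtain ⟨v, hv⟩ := QuotientAddGroup.mk_surjective (y : V ⧸ C)
    have hvY : mk v ∈ Y := by show QuotientAddGroup.mk v ∈ Y; rw [hv]; exact y.2
    obtain ⟨u, hu, w, hw, rfl⟩ :=
      AddSubgroup.mem_sup.1 (hsup g hg ▸ AddSubgroup.mem_top v : v ∈ U ⊔ fixV (g *• B))
    have hwC : w ∈ C := by
      by_contra hwC
      refine hclean' g hg w hw hwC a₀ ha₀ ha₀R ?_
      have h1 := congrArg Subtype.val (hy ⟨a₀, ha₀⟩)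
      change ρ a₀ (y : V ⧸ C) = y at h1
      rw [← hv, hρ, quotHom_mk, smul_add, hu a₀ ha₀] at h1
      have h2 := QuotientAddGroup.eq.1 h1.symm
      rwa [show -(u + w) + (u + a₀ • w) = a₀ • w - w by abel] at h2
    refine ⟨u + w, ⟨add_mem hu (fixV_anti le_top hwC), hvY⟩, fun h => hy0 (Subtype.ext ?_)⟩
    show (0 : V ⧸ C) = y
    rw [← hv, eq_comm, QuotientAddGroup.eq_zero_iff]
    exact h
  -- the orbit map of `B'`
  set BR' := (B' ⊓ R).subgroupOf B' with hBR'
  have hθ : ∀ u ∈ UY, ∀ b : B', mk ((b : X) • u - u) ∈ WY.map mk := by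
    intro u hu b
    refine ⟨_, ⟨?_, show mk ((b : X) • u - u) ∈ Y by
      rw [map_sub]; exact sub_mem (hYx _ _ hu.2) hu.2⟩, rfl⟩
    obtain ⟨_, b₀, hb₀, rfl⟩ := b
    show _ ∈ fixV (g *• B)
    rw [← smulSub_fixV, mem_smulSub]
    show g⁻¹ • ((g * b₀ * g⁻¹) • u - u) ∈ fixV B
    simp only [smul_sub, mul_smul, inv_smul_smul]
    exact fun a ha => hquad b₀ hb₀ a ha (g⁻¹ • u) trivial
  let θ : ∀ u ∈ UY, B' ⧸ BR' → WY.map mk := fun u hu q => ⟨_, hθ u hu q.out⟩
  have hθinj : ∀ u (hu : u ∈ UY), u ∉ C → Function.Injective (θ u hu) := by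
    intro u hu huC q q' h
    have h1 := QuotientAddGroup.eq.1 (congrArg Subtype.val h)
    refine (QuotientGroup.out_eq' q).symm.trans
      ((QuotientGroup.eq.2 ?_).trans (QuotientGroup.out_eq' q'))
    refine mem_subgroupOf.2 ⟨(q.out⁻¹ * q'.out).2, ?_⟩
    by_contra hnR
    refine hclean g hg u hu.1 huC _ (q.out⁻¹ * q'.out).2 hnR ?_
    have h2 : (q.out : X)⁻¹ • ((q'.out : X) • u - u) - (q.out : X)⁻¹ • ((q.out : X) • u - u) ∈ C := by
      rw [← smul_sub]
      rw [show ((q'.out : X) • u - u) - ((q.out : X) • u - u) =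
        -((q.out : X) • u - u) + ((q'.out : X) • u - u) by abel, hCfix _ _ h1]
      exact h1
    rw [smul_sub, smul_sub, inv_smul_smul] at h2
    show ((q.out : X)⁻¹ * q'.out) • u - u ∈ C
    rwa [mul_smul, show (q.out : X)⁻¹ • (q'.out : X) • u - u =
      (q.out : X)⁻¹ • (q'.out : X) • u - (q.out : X)⁻¹ • u - (u - (q.out : X)⁻¹ • u) by abel]
  set Q := Nat.card (B' ⧸ BR') with hQdef
  have hQcard : Nat.card B = Q * Nat.card ↥(B ⊓ R) := by
    rw [← card_cj g B, BR'.card_eq_card_quotient_mul_card_subgroup, hBR',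
      Nat.card_congr (subgroupOfEquivOfLe (inf_le_left : B' ⊓ R ≤ B')).toEquiv, hcardB']
  have hQle : Q ≤ Nat.card (UY.map mk) :=
    hcardUW ▸ Nat.card_le_card_of_injective _ (hθinj u₀ hu₀ hu₀C)
  have hQlt : Q * Q < Nat.card Y := by
    rcases hQle.lt_or_eq with hlt | heq
    · exact lt_of_lt_of_le (Nat.mul_self_lt_mul_self hlt) hprodle
    · exfalso
      have hsurj : ∀ u (hu : u ∈ UY), u ∉ C → Function.Surjective (θ u hu) := fun u hu huC =>
        ((Nat.bijective_iff_injective_and_card _).2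
          ⟨hθinj u hu huC, by rw [hcardUW, ← heq]⟩).2
      -- vectors permuted as by `S₃`
      set w := g • u₀ with hw
      have hwWY : w ∈ WY := hWYeq ▸ smul_mem_smulSub hu₀
      have hwC : w ∉ C := fun h => hu₀C (by
        have := (smul_mem_iff_of_mem_stabS (hCinv ▸ mem_top g : g ∈ stabS C)).1 h
        exact this)
      set u := a₀ • w - w with hu'
      have huC : u ∉ C := hclean' g hg w hwWY.1 hwC a₀ ha₀ ha₀R
      have huUY : u ∈ UY := ⟨fun a ha => hquad a₀ ha₀ a ha w trivial, show mk (a₀ • w - w) ∈ Y by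
        rw [map_sub]; exact sub_mem (hYx _ _ hwWY.2) hwWY.2⟩
      obtain ⟨q, hq⟩ := hsurj u huUY huC ⟨mk w, w, hwWY, rfl⟩
      set b : X := (q.out : X) with hb
      have hq' : mk (b • u - u) = mk w := congrArg Subtype.val hq
      have hw2 : ∀ z : V ⧸ C, z + z = 0 := fun z => by
        obtain ⟨v, rfl⟩ := QuotientAddGroup.mk_surjective z
        rw [← QuotientAddGroup.mk_add, hV]
        rfl
      let e : Fin 3 → V ⧸ C := ![mk u, mk w, mk u + mk w]
      have hu0 : mk u ≠ 0 := fun h => huC ((QuotientAddGroup.eq_zero_iff u).1 h)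
      have hw0 : mk w ≠ 0 := fun h => hwC ((QuotientAddGroup.eq_zero_iff w).1 h)
      have huw : mk u ≠ mk w := fun h => by
        have h1 : mk u ∈ UY.map mk ⊓ WY.map mk := ⟨⟨u, huUY, rfl⟩, ⟨w, hwWY, h.symm⟩⟩
        rw [hinfbar, AddSubgroup.mem_bot] at h1
        exact hu0 h1
      have he : Function.Injective e := by
        intro i j hij
        fin_cases i <;> fin_cases j <;>
          simp [e, hu0, hw0, huw, huw.symm] at hij ⊢
      have hau : ρ a₀ (mk u) = mk u := by
        show mk (a₀ • u) = mk u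
        rw [huUY.1 a₀ ha₀]
      have haw : ρ a₀ (mk w) = mk u + mk w := by
        show mk (a₀ • w) = mk u + mk w
        rw [← map_add, hu', sub_add_cancel]
      have hbw : ρ b (mk w) = mk w := by
        show mk (b • w) = mk w
        rw [hwWY.1 b q.out.2]
      have hbu : ρ b (mk u) = mk u + mk w := by
        show mk (b • u) = mk u + mk w
        rw [← hq', ← map_add, add_sub_cancel]
      let K : Subgroup X :=
        { carrier := {x | ∃ σ : Equiv.Perm (Fin 3), ∀ i, ρ x (e i) = e (σ i)}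
          one_mem' := ⟨1, fun i => by rw [map_one]; rfl⟩
          mul_mem' := by
            rintro x y ⟨σ, hσ⟩ ⟨τ, hτ⟩
            refine ⟨σ * τ, fun i => ?_⟩
            rw [map_mul]
            show ρ x (ρ y (e i)) = _
            rw [hτ, hσ]
            rfl
          inv_mem' := by
            rintro x ⟨σ, hσ⟩
            refine ⟨σ⁻¹, fun i => ?_⟩
            have h := congrArg (ρ x⁻¹) (hσ (σ⁻¹ i))
            change (ρ x⁻¹ * ρ x) _ = _ at h
            rw [← map_mul, inv_mul_cancel, map_one, show σ (σ⁻¹ i) = i from σ.apply_symm_apply i] at h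
            exact h.symm }
      let f : K →* Equiv.Perm (Fin 3) :=
        { toFun := fun x => Classical.choose x.2
          map_one' := Equiv.ext fun i => he ((Classical.choose_spec (1 : K).2 i).symm.trans
            (by rw [OneMemClass.coe_one, map_one]; rfl))
          map_mul' := fun x y => Equiv.ext fun i => he
            ((Classical.choose_spec (x * y).2 i).symm.trans (by
              rw [Subgroup.coe_mul, map_mul]
              show ρ (x : X) (ρ (y : X) (e i)) = _
              rw [Classical.choose_spec y.2, Classical.choose_spec x.2]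
              rfl)) }
      have hmemK : ∀ x : X, ∀ σ : Equiv.Perm (Fin 3), (∀ i, ρ x (e i) = e (σ i)) →
          σ ∈ f.range := fun x σ h =>
        ⟨⟨x, σ, h⟩, Equiv.ext fun i => he ((Classical.choose_spec (⟨x, σ, h⟩ : K).2 i).symm.trans (h i))⟩
      have hs : Equiv.swap (1 : Fin 3) 2 ∈ f.range := hmemK a₀ _ fun i => by
        fin_cases i
        · exact hau
        · exact haw
        · show ρ a₀ (mk u + mk w) = mk w
          rw [map_add, hau, haw, ← add_assoc, hw2, zero_add]
      have ht : Equiv.swap (0 : Fin 3) 2 ∈ f.range := hmemK b _ fun i => by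
        fin_cases i
        · exact hbu
        · exact hbw
        · show ρ b (mk u + mk w) = mk u
          rw [map_add, hbu, hbw, add_assoc, hw2, add_zero]
      refine hfree (involves_of_surjective_subgroup K f (MonoidHom.range_eq_top.1 ?_))
      refine eq_top_iff.2 fun σ _ => ?_
      have hσ : ∀ σ : Equiv.Perm (Fin 3), σ = 1 ∨ σ = Equiv.swap 1 2 ∨ σ = Equiv.swap 0 2 ∨
          σ = Equiv.swap 1 2 * Equiv.swap 0 2 ∨ σ = Equiv.swap 0 2 * Equiv.swap 1 2 ∨
          σ = Equiv.swap 1 2 * Equiv.swap 0 2 * Equiv.swap 1 2 := by decide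
      rcases hσ σ with rfl | rfl | rfl | rfl | rfl | rfl
      · exact one_mem _
      · exact hs
      · exact ht
      · exact mul_mem hs ht
      · exact mul_mem ht hs
      · exact mul_mem (mul_mem hs ht) hs
  -- the count
  have hVbar : Nat.card (V ⧸ C) ≤ Nat.card B * Nat.card B := by
    have h1 : Nat.card V ≤ Nat.card B * Nat.card U := by
      have := hmin.1.card_le
      rwa [kerOn_top, Subgroup.card_bot, mul_one, top_inf_eq, AddSubgroup.card_top] at this
    have h2 : Nat.card V * Nat.card C ≥ Nat.card U * Nat.card U := by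
      have h3 := card_sup_mul_card_inf U W
      rw [show U ⊔ W = ⊤ from hsup g hg, AddSubgroup.card_top, ← hWU, card_smulSub, hWU] at h3
      rw [ge_iff_le, ← h3]
      exact Nat.mul_le_mul_left _
        (AddSubgroup.card_le_of_le fun v hv => hinf g hg v hv.1 hv.2)
    have h4 := C.card_eq_card_quotient_mul_card_addSubgroup
    have hCpos : 0 < Nat.card C := Nat.card_pos
    have hUpos : 0 < Nat.card U := Nat.card_pos
    by_contra hlt
    rw [not_le] at hlt
    have h5 : Nat.card B * Nat.card B * Nat.card C < Nat.card V :=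
      h4 ▸ Nat.mul_lt_mul_of_pos_right hlt hCpos
    nlinarith [Nat.mul_le_mul h1 h1]
  have h1 : Nat.card ↥(B ⊓ R) * Nat.card ↥(B ⊓ R) * Nat.card Y ≤
      Nat.card ↥(B ⊓ R) * Nat.card ↥(B ⊓ R) * (Q * Q) :=
    ((Nat.mul_le_mul_right _ hNcard).trans (hmain.trans hVbar)).trans_eq (by rw [hQcard]; ring)
  exact absurd (Nat.le_of_mul_le_mul_left h1 (Nat.mul_pos Nat.card_pos Nat.card_pos)) hQlt.not_ge

end CfsgLib.NoOffender
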