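import Cfsg.Agent.NoOffender.Step

/-!
A finite group with trivial `O₂` in which `S₃` is not involved has no offender on a faithful
elementary abelian `2`-module, and the consequences for `S₄`-free groups.
-/

set_option autoImplicit false

universe u

namespace CfsgLib.NoOffender

open Cfsg Subgroup
open CfsgLib.ConjFunctor

/-- The bound on offenders from the bound on stabilisers. -/
theorem offBound_of_stabBound {n : ℕ} (hn : StabBound.{u} n) : OffBound.{u} n := by
  suffices H : ∀ (m : ℕ) (X V : Type u) [Group X] [AddCommGroup V] [DistribMulAction X V]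
      [FaithfulSMul X V] [Finite X] [Finite V], Nat.card V = m → Nat.card X < n →
      (∀ v : V, v + v = 0) → pCore 2 X = ⊥ → ¬ Involves (Equiv.Perm (Fin 3)) X →
      ∀ B : Subgroup X, ¬ OffOn B (⊤ : AddSubgroup V) from
    fun X V _ _ _ _ _ _ => H _ X V rfl
  intro m
  induction m using Nat.strongRecOn with
  | ind m ih =>
  intro X V _ _ _ _ _ _ hm hX hV hO hfree B hB
  classical
  obtain ⟨P, hBP⟩ := hB.isPGroup.exists_le_sylow
  set D : AddSubgroup V := dGood (P : Subgroup X) with hD
  have hDst : stabS (X := X) D = ⊤ := hn X V hX hV hfree P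
  obtain ⟨B₁, hB₁B, hmin⟩ := exists_minOff hB
  have hB₁P := hB₁B.trans hBP
  have hDU : D ≤ fixV B₁ := (good_dGood _).le_fixV hB₁P hmin le_top
  have hDinv : ∀ x : X, ∀ v, x • v ∈ D ↔ v ∈ D := fun x v =>
    smul_mem_iff_of_mem_stabS (hDst ▸ mem_top x)
  -- `D` is nontrivial
  obtain ⟨v₀, -, hv₀⟩ := SetLike.not_le_iff_exists.1 hmin.1.nontriv
  have hv₀0 : v₀ ≠ 0 := fun h => hv₀ (h ▸ zero_mem _)
  have hD0 : D ≠ ⊥ := by
    intro h
    have h2 : addOrderOf v₀ = 2 := addOrderOf_eq_prime (by rw [two_nsmul]; exact hV v₀) hv₀0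
    obtain ⟨v, hv, hv0⟩ := P.2.exists_fixed_point_of_prime_dvd_card_of_fixed_point V
      (h2 ▸ addOrderOf_dvd_natCard v₀) (show (0 : V) ∈ MulAction.fixedPoints (P : Subgroup X) V from
        fun b => smul_zero (b : X))
    have h3 : v ∈ D := le_dGood (good_of_le_fixV (le_refl (fixV (P : Subgroup X))))
      (fun b hb => hv ⟨b, hb⟩)
    rw [h, AddSubgroup.mem_bot] at h3
    exact hv0 h3.symm
  have hlt : Nat.card (V ⧸ D) < m := by
    rw [← hm, D.card_eq_card_quotient_mul_card_addSubgroup]
    exact lt_mul_of_one_lt_right Nat.card_pos (D.one_lt_card_iff_ne_bot.2 hD0)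
  -- the kernel on `D`
  set K := fixingSubgroup X (D : Set V) with hK
  have hKmem : ∀ {x : X}, x ∈ K ↔ ∀ v ∈ D, x • v = v := fun {x} => mem_fixingSubgroup_iff X
  have hKn : K.Normal := ⟨fun k hk x => hKmem.2 fun v hv => by
    rw [mul_smul, mul_smul, hKmem.1 hk _ ((hDinv _ _).2 hv), smul_inv_smul]⟩
  set ρ := quotHom D hDst with hρ
  set f := (ρ.comp K.subtype).toHomUnits.rangeRestrict with hf
  have hfmk : ∀ (k : K) (v : V),
      f k • (QuotientAddGroup.mk v : V ⧸ D) = QuotientAddGroup.mk ((k : X) • v) := fun k v => rfl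
  -- the kernel of `f` is a normal `2`-subgroup
  have hfinj : Function.Injective f := by
    let N : Subgroup X := f.ker.map K.subtype
    have hNmem : ∀ x : X, x ∈ N ↔ x ∈ K ∧ ∀ v : V, x • v - v ∈ D := by
      intro x
      constructor
      · rintro ⟨k, hk, rfl⟩
        refine ⟨k.2, fun v => ?_⟩
        have h1 := hfmk k v
        rw [show f k = 1 from hk, one_smul, QuotientAddGroup.eq] at h1
        rwa [show -v + (k : X) • v = (k : X) • v - v by abel] at h1
      · rintro ⟨hx, hx'⟩
        refine ⟨⟨x, hx⟩, ?_, rfl⟩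
        refine eq_of_smul_eq_smul (α := V ⧸ D) fun z => ?_
        obtain ⟨v, rfl⟩ := QuotientAddGroup.mk_surjective z
        rw [one_smul, hfmk]
        exact (QuotientAddGroup.eq.2 (by
          show -v + x • v ∈ D
          rw [show -v + x • v = x • v - v by abel]; exact hx' v)).symm
    have hNn : N.Normal := ⟨fun k hk x => by
      rw [hNmem] at hk ⊢
      refine ⟨hKn.conj_mem k hk.1 x, fun v => ?_⟩
      have h1 := (hDinv x _).2 (hk.2 (x⁻¹ • v))
      rw [smul_sub, smul_inv_smul] at h1
      rwa [mul_smul, mul_smul]⟩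
    have hNp : IsPGroup 2 N := fun x => by
      refine ⟨1, Subtype.ext (eq_of_smul_eq_smul (α := V) fun v => ?_)⟩
      obtain ⟨hx, hx'⟩ := (hNmem _).1 x.2
      rw [pow_one, sq, Subgroup.coe_mul, OneMemClass.coe_one, one_smul, mul_smul]
      have h1 := hKmem.1 hx _ (hx' v)
      rw [smul_sub] at h1
      calc (x : X) • (x : X) • v = ((x : X) • (x : X) • v - (x : X) • v) + (x : X) • v := by abel
        _ = ((x : X) • v + (x : X) • v) - v := by rw [h1]; abel
        _ = -v := by rw [hV, zero_sub]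
        _ = v := neg_eq_of_add_eq_zero_left (hV v)
    have hN0 : N = ⊥ := le_bot_iff.1 (hO ▸ PLocal.le_pCore hNp)
    rwa [show N = f.ker.map K.subtype from rfl, map_eq_bot_iff_of_injective _ K.subtype_injective,
      MonoidHom.ker_eq_bot_iff] at hN0
  have hfsurj : Function.Surjective f := MonoidHom.rangeRestrict_surjective _
  -- the smaller configuration
  have hV' : ∀ z : V ⧸ D, z + z = 0 := fun z => by
    obtain ⟨v, rfl⟩ := QuotientAddGroup.mk_surjective z
    rw [← QuotientAddGroup.mk_add, hV]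
    rfl
  have hO' : pCore 2 (ρ.comp K.subtype).toHomUnits.range = ⊥ := by
    have h1 : pCore 2 K = ⊥ := by
      haveI : ((pCore 2 K).map K.subtype).Normal := inferInstance
      have h2 : (pCore 2 K).map K.subtype ≤ pCore 2 X :=
        PLocal.le_pCore ((PLocal.isPGroup_pCore 2 K).map _)
      rwa [hO, le_bot_iff, map_eq_bot_iff_of_injective _ K.subtype_injective] at h2
    rw [← PLocal.map_pCore_equiv (MulEquiv.ofBijective f ⟨hfinj, hfsurj⟩), h1]
    exact Subgroup.map_bot _
  have hcard' : Nat.card (ρ.comp K.subtype).toHomUnits.range < n :=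
    lt_of_le_of_lt ((Nat.card_le_card_of_surjective f hfsurj).trans
      (Nat.le_of_dvd Nat.card_pos (card_subgroup_dvd_card K))) hX
  have hfree' : ¬ Involves (Equiv.Perm (Fin 3)) (ρ.comp K.subtype).toHomUnits.range := fun h => hfree
    (involves_trans (involves_trans (involves_subgroup K) (involves_of_surjective f hfsurj)) h)
  have hB₁K : B₁ ≤ K := fun b hb => hKmem.2 fun v hv => hDU hv b hb
  refine ih _ hlt (ρ.comp K.subtype).toHomUnits.range (V ⧸ D) rfl hcard' hV' hO' hfree' ((B₁.subgroupOf K).map f)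
    ⟨fun _ _ _ _ => trivial, ?_, ?_, ?_⟩
  · rintro _ ⟨b, hb, rfl⟩ z -
    obtain ⟨v, rfl⟩ := QuotientAddGroup.mk_surjective z
    rw [hfmk, hfmk, hmin.1.invol b hb v (AddSubgroup.mem_top v)]
  · intro h
    refine hmin.1.nontriv fun v _ b hb => ?_
    have h1 : f ⟨b, hB₁K hb⟩ = 1 := eq_of_smul_eq_smul (α := V ⧸ D) fun z => by
      rw [one_smul]
      exact h (AddSubgroup.mem_top z) _ ⟨_, hb, rfl⟩
    rw [show b = ((⟨b, hB₁K hb⟩ : K) : X) from rfl, hfinj (h1.trans f.map_one.symm),
      OneMemClass.coe_one, one_smul]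
  · rw [kerOn_top, Subgroup.card_bot, mul_one, top_inf_eq, AddSubgroup.card_top,
      Subgroup.card_map_of_injective hfinj,
      Nat.card_congr (Subgroup.subgroupOfEquivOfLe hB₁K).toEquiv]
    have h1 : Nat.card V ≤ Nat.card B₁ * Nat.card (fixV B₁ : AddSubgroup V) := by
      have := hmin.1.card_le
      rwa [kerOn_top, Subgroup.card_bot, mul_one, top_inf_eq, AddSubgroup.card_top] at this
    have h2 : Nat.card ((fixV B₁ : AddSubgroup V).map (QuotientAddGroup.mk' D)) ≤
        Nat.card (fixV ((B₁.subgroupOf K).map f) : AddSubgroup (V ⧸ D)) := by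
      refine AddSubgroup.card_le_of_le ?_
      rintro _ ⟨v, hv, rfl⟩ _ ⟨b, hb, rfl⟩
      show f b • (QuotientAddGroup.mk v : V ⧸ D) = _
      rw [hfmk, hv b hb]
      rfl
    refine le_trans ?_ (Nat.mul_le_mul_left _ h2)
    have h3 : Nat.card ((fixV B₁ : AddSubgroup V).map (QuotientAddGroup.mk' D)) * Nat.card D =
        Nat.card (fixV B₁ : AddSubgroup V) := by
      have h4 := AddSubgroup.relIndex_ker (K := (fixV B₁ : AddSubgroup V)) (QuotientAddGroup.mk' D)
      rw [QuotientAddGroup.ker_mk'] at h4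
      have h5 := AddSubgroup.relIndex_mul_relIndex ⊥ D (fixV B₁ : AddSubgroup V) bot_le hDU
      rw [AddSubgroup.relIndex_bot_left, AddSubgroup.relIndex_bot_left, h4] at h5
      rw [mul_comm]
      exact h5
    refine Nat.le_of_mul_le_mul_right ?_ (Nat.card_pos : 0 < Nat.card D)
    rw [← D.card_eq_card_quotient_mul_card_addSubgroup, mul_assoc, h3]
    exact h1

theorem stabBound_succ {n : ℕ} (hn : StabBound.{u} n) : StabBound.{u} (n + 1) := by
  suffices H : ∀ (m : ℕ) (X V : Type u) [Group X] [AddCommGroup V] [DistribMulAction X V]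
      [FaithfulSMul X V] [Finite X] [Finite V], Nat.card V = m → Nat.card X ≤ n →
      (∀ v : V, v + v = 0) → ¬ Involves (Equiv.Perm (Fin 3)) X → ∀ P : Sylow 2 X,
      stabS (X := X) (dGood (P : Subgroup X) : AddSubgroup V) = ⊤ from
    fun X V _ _ _ _ _ _ h => H _ X V rfl (Nat.lt_succ_iff.1 h)
  intro m
  induction m using Nat.strongRecOn with
  | ind m ih =>
  intro X V _ _ _ _ _ _ hm hX hV hfree P
  classical
  set D : AddSubgroup V := dGood (P : Subgroup X) with hD
  by_contra hne
  set T : AddSubgroup V := ⨆ x : X, smulSub x D with hT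
  have hTinv : stabS T = (⊤ : Subgroup X) := by
    refine eq_top_iff.2 (inv_iff_le_stabS.1 fun x _ v hv => ?_)
    refine (?_ : smulSub x T ≤ T) (smul_mem_smulSub hv)
    rw [hT, smulSub, AddSubgroup.map_iSup]
    exact iSup_le fun y => le_iSup_of_le (x * y) (smulSub_smulSub x y D).le
  by_cases hTtop : T = ⊤
  · exact step_false hn (offBound_of_stabBound hn) hX hV hfree P hTtop hne
  have hDT : D ≤ T := le_trans (by
      rw [show smulSub (1 : X) D = D from (one_mem (stabS (X := X) D) :)])
    (le_iSup (fun x : X => smulSub x D) 1)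
  let ρ : X →* AddMonoid.End T :=
    { toFun := fun x => ((DistribSMul.toAddMonoidHom V x).comp T.subtype).codRestrict T fun v =>
        (smul_mem_iff_of_mem_stabS (hTinv ▸ mem_top x)).2 v.2
      map_one' := AddMonoidHom.ext fun v => Subtype.ext (one_smul X (v : V))
      map_mul' := fun x y => AddMonoidHom.ext fun v => Subtype.ext (mul_smul x y (v : V)) }
  set f := ρ.toHomUnits.rangeRestrict with hf
  have hfsurj : Function.Surjective f := MonoidHom.rangeRestrict_surjective _
  have hlt : Nat.card T < m := hm ▸ lt_of_le_of_ne (AddSubgroup.card_le_card_addGroup T)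
    fun he => hTtop (AddSubgroup.eq_top_of_card_eq T he)
  have h := ih _ hlt ρ.toHomUnits.range T rfl ((Nat.card_le_card_of_surjective f hfsurj).trans hX)
    (fun v => Subtype.ext (hV v))
    (fun h => hfree (involves_trans (involves_of_surjective f hfsurj) h))
    (P.mapSurjective hfsurj)
  rw [Sylow.coe_mapSurjective] at h
  have hmap := map_dGood f T.subtype Subtype.val_injective (fun _ _ => rfl) (P : Subgroup X)
    (by rw [AddSubgroup.range_subtype]; exact hDT)
  refine hne (eq_top_iff.2 (inv_iff_le_stabS.1 fun x _ v hv => ?_))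
  rw [hD, ← hmap] at hv ⊢
  obtain ⟨w, hw, rfl⟩ := hv
  exact ⟨f x • w, (smul_mem_iff_of_mem_stabS (h ▸ mem_top (f x))).2 hw, rfl⟩

theorem stabBound : ∀ n, StabBound.{u} n
  | 0 => fun _ _ _ _ _ _ _ _ h => absurd h (Nat.not_lt_zero _)
  | n + 1 => stabBound_succ (stabBound n)

theorem offBound (n : ℕ) : OffBound.{u} n := offBound_of_stabBound (stabBound n)

/-- No offender for a faithful action with trivial `O₂` of an `S₃`-free group. -/
theorem not_offOn_top {X V : Type u} [Group X] [AddCommGroup V] [DistribMulAction X V]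
    [FaithfulSMul X V] [Finite X] [Finite V] (hV : ∀ v : V, v + v = 0) (hO : pCore 2 X = ⊥)
    (hfree : ¬ Involves (Equiv.Perm (Fin 3)) X) (B : Subgroup X) :
    ¬ OffOn B (⊤ : AddSubgroup V) :=
  offBound (Nat.card X + 1) X V (Nat.lt_succ_self _) hV hO hfree B

/-- Glauberman's factorization of an `S₄`-free constrained group. -/
theorem factor_centralizer_normalizer {Y : Type u} [Group Y] [Finite Y]
    (hc : Subgroup.centralizer (pCore 2 Y : Set Y) ≤ pCore 2 Y)
    (hfree : ¬ Involves (Equiv.Perm (Fin 4)) Y) (S : Sylow 2 Y) (g : Y) :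
    ∃ c ∈ Subgroup.centralizer
        (((S : Subgroup Y) ⊓ Subgroup.centralizer ((S : Subgroup Y) : Set Y) : Subgroup Y) : Set Y),
      ∃ m ∈ normalizer ((thompsonSubgroupOf 2 (S : Subgroup Y)) : Set Y), g = c * m :=
  factor_of_noOffender (offBound _) le_rfl hc hfree S g

/-- Glauberman's fusion theorem for `S₄`-free groups. -/
theorem familyFusion {G : Type u} [Group G] [Finite G]
    (hfree : ¬ Involves (Equiv.Perm (Fin 4)) G) :
    FamilyControlsStrongFusionIn 2 (indFam zjFam G) ⊤ :=
  familyFusion_of_offBound (offBound _) le_rfl hfree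

end CfsgLib.NoOffender
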