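import Mathlib

/-!
A group `N` of homomorphisms `V → C` invariant under precomposition with a ring `S` of endomorphisms
of `V`, such that every nonzero subgroup `E` is smaller than the index of its common kernel: then
`|N| |Y| ≤ |V|` for every irreducible `S`-invariant subgroup `Y` of `V`.

The proof splits `1` into local idempotents `e` of `S`; for these, `|eV|` and `|N e|` are powers of
`|eY|`.
-/

set_option autoImplicit false

namespace CfsgLib.NoOffender

theorem exists_pow_idempotent {M : Type*} [Monoid M] [Finite M] (q : M) :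
    ∃ n, q ^ (n + 1) * q ^ (n + 1) = q ^ (n + 1) := by
  obtain ⟨a, b, hab, h⟩ := Finite.exists_ne_map_eq_of_infinite (fun n : ℕ => q ^ n)
  wlog hlt : a < b generalizing a b
  · exact this b a hab.symm h.symm (by omega)
  obtain ⟨d, rfl⟩ : ∃ d, b = a + (d + 1) := ⟨b - a - 1, by omega⟩
  have h1 : ∀ k, q ^ (a + k * (d + 1)) = q ^ a := by
    intro k
    induction k with
    | zero => simp
    | succ k ih =>
      have h' : q ^ a = q ^ (a + (d + 1)) := h
      rw [show a + (k + 1) * (d + 1) = a + k * (d + 1) + (d + 1) by ring, pow_add, ih, ← pow_add,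
        ← h']
  have h2 : a + 1 ≤ (a + 1) * (d + 1) := Nat.le_mul_of_pos_right _ (by omega)
  obtain ⟨r, hr⟩ : ∃ r, (a + 1) * (d + 1) = a + r + 1 := ⟨(a + 1) * (d + 1) - a - 1, by omega⟩
  refine ⟨a + r, ?_⟩
  calc q ^ (a + r + 1) * q ^ (a + r + 1)
      = q ^ (r + 1) * q ^ (a + (a + 1) * (d + 1)) := by
        rw [← pow_add, ← pow_add, hr]; congr 1; omega
    _ = q ^ (a + r + 1) := by rw [h1, ← pow_add]; congr 1; omega

/-- An invariant subgroup of a finite module over a local ring has order a power of the residue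
order. -/
theorem exists_card_eq_pow {R M : Type*} [AddCommGroup R] [AddCommGroup M] [Finite M]
    (ψ : R →+ AddMonoid.End M) (I : AddSubgroup R) {e : R} (he : ψ e = 1)
    (hnil : ∀ q ∈ I, ∃ n : ℕ, ψ q ^ n = 0) (hunit : ∀ q, q ∉ I → Function.Injective (ψ q))
    (hmul : ∀ p q, ∃ r, ψ r = ψ p * ψ q) (hideal : ∀ p, ∀ q ∈ I, ∃ r ∈ I, ψ r = ψ p * ψ q)
    (M' : AddSubgroup M) (hM' : ∀ q, ∀ m ∈ M', ψ q m ∈ M') :
    ∃ k, Nat.card M' = I.index ^ k := by
  classical
  induction M' using WellFoundedLT.induction with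
  | _ M' ih =>
  rcases eq_or_ne M' ⊥ with rfl | hne
  · exact ⟨0, by simp⟩
  obtain ⟨M'', ⟨hlt, hinv⟩, hmax⟩ := Set.exists_max_image
    {N : AddSubgroup M | N < M' ∧ ∀ q, ∀ m ∈ N, ψ q m ∈ N} (fun N => Nat.card N) (Set.toFinite _)
    ⟨⊥, bot_lt_iff_ne_bot.2 hne, fun q m hm => by
      rw [AddSubgroup.mem_bot] at hm ⊢; rw [hm, map_zero]⟩
  obtain ⟨z, hz, hz'⟩ := SetLike.exists_of_lt hlt
  let g : R →+ M := (AddMonoidHom.eval z).comp ψ
  have hg : ∀ q, g q = ψ q z := fun q => rfl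
  have hmaxle : ∀ N : AddSubgroup M, M'' ≤ N → N ≤ M' → (∀ q, ∀ m ∈ N, ψ q m ∈ N) →
      N = M'' ∨ N = M' := by
    intro N h1 h2 h3
    by_contra h
    push Not at h
    exact h.1 (AddSubgroup.eq_of_le_of_card_ge h1 (hmax N ⟨lt_of_le_of_ne h2 h.2, h3⟩)).symm
  have hspan : M'' ⊔ AddMonoidHom.range g = M' := by
    refine (hmaxle _ le_sup_left (sup_le hlt.le ?_) fun q m hm => ?_).resolve_left fun h =>
      hz' (h ▸ AddSubgroup.mem_sup_right ⟨e, by rw [hg, he]; rfl⟩)
    · rintro _ ⟨q, rfl⟩; exact hM' q z hz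
    · obtain ⟨a, ha, _, ⟨p, rfl⟩, rfl⟩ := AddSubgroup.mem_sup.1 hm
      obtain ⟨r, hr⟩ := hmul q p
      rw [map_add]
      exact AddSubgroup.add_mem_sup (hinv q a ha) ⟨r, by rw [hg, hg, hr]; rfl⟩
  have hker : ∀ q, g q ∈ M'' ↔ q ∈ I := by
    refine fun q => ⟨fun hq => ?_, fun hq => ?_⟩
    · by_contra hqI
      have hsurj : Function.Surjective fun m : M'' => (⟨ψ q m, hinv q m m.2⟩ : M'') :=
        Finite.surjective_of_injective fun a b hab => Subtype.ext (hunit q hqI (congrArg Subtype.val hab :))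
      obtain ⟨⟨m, hm⟩, hmz⟩ := hsurj ⟨g q, hq⟩
      exact hz' (hunit q hqI (congrArg Subtype.val hmz :) ▸ hm)
    · by_contra hbad
      have h1 : M'' ⊔ I.map g = M' := by
        refine (hmaxle _ le_sup_left (sup_le hlt.le ?_) fun p m hm => ?_).resolve_left fun h =>
          hbad (h ▸ AddSubgroup.mem_sup_right ⟨q, hq, rfl⟩)
        · rintro _ ⟨i, -, rfl⟩; exact hM' i z hz
        · obtain ⟨a, ha, _, ⟨i, hi, rfl⟩, rfl⟩ := AddSubgroup.mem_sup.1 hm
          obtain ⟨r, hrI, hr⟩ := hideal p i hi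
          rw [map_add]
          exact AddSubgroup.add_mem_sup (hinv p a ha) ⟨r, hrI, by rw [hg, hg, hr]; rfl⟩
      obtain ⟨a, ha, _, ⟨i, hi, rfl⟩, haz⟩ := AddSubgroup.mem_sup.1 (h1.symm ▸ hz)
      obtain ⟨n, hn⟩ := hnil i hi
      have hstep : ∀ k : ℕ, z - (ψ i ^ k) z ∈ M'' := by
        intro k
        induction k with
        | zero => simp
        | succ k ih' =>
          have h2 : z - (ψ i ^ (k + 1)) z = (z - g i) + ψ i (z - (ψ i ^ k) z) := by
            rw [map_sub, hg, pow_succ', AddMonoid.End.coe_mul]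
            simp only [Function.comp_apply]
            abel
          rw [h2]
          exact add_mem (by rw [sub_eq_of_eq_add haz.symm]; exact ha) (hinv i _ ih')
      have := hstep n
      rw [hn] at this
      simp [hz'] at this
  obtain ⟨k, hk⟩ := ih M'' hlt hinv
  refine ⟨k + 1, ?_⟩
  let π := QuotientAddGroup.mk' M''
  have hI : I = (π.comp g).ker := by
    ext q
    rw [AddMonoidHom.mem_ker, ← hker]
    exact (QuotientAddGroup.eq_zero_iff (g q)).symm
  have hmap : M'.map π = (π.comp g).range := by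
    rw [← hspan, AddSubgroup.map_sup, AddMonoidHom.range_comp,
      (AddSubgroup.map_eq_bot_iff _).2 (QuotientAddGroup.ker_mk' M'').ge, bot_sup_eq]
  have hidx : M''.relIndex M' = I.index := by
    rw [hI, AddSubgroup.index_ker, ← hmap, ← AddSubgroup.relIndex_ker, QuotientAddGroup.ker_mk']
  have hmul' := AddSubgroup.relIndex_mul_relIndex ⊥ M'' M' bot_le hlt.le
  rw [AddSubgroup.relIndex_bot_left, AddSubgroup.relIndex_bot_left, hidx, hk] at hmul'
  rw [← hmul', pow_succ]

variable {V C : Type*} [AddCommGroup V] [Finite V] [AddCommGroup C] [Finite C]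

instance finiteEnd : Finite (AddMonoid.End V) :=
  Finite.of_injective (fun f : AddMonoid.End V => (f : V → V)) DFunLike.coe_injective

instance finiteHom : Finite (V →+ C) :=
  Finite.of_injective (fun f : V →+ C => (f : V → C)) DFunLike.coe_injective

/-- Evaluation of endomorphisms at a vector. -/
def endEval (v : V) : AddMonoid.End V →+ V where
  toFun q := q v
  map_zero' := rfl
  map_add' _ _ := rfl

/-- The elements of `N` fixed under precomposition with `e`. -/
def fixComp (N : AddSubgroup (V →+ C)) (e : AddMonoid.End V) : AddSubgroup (V →+ C) where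
  carrier := {f | f ∈ N ∧ ∀ v, f (e v) = f v}
  zero_mem' := ⟨zero_mem N, fun _ => rfl⟩
  add_mem' {f g} hf hg := ⟨add_mem hf.1 hg.1, fun v => by simp [hf.2 v, hg.2 v]⟩
  neg_mem' {f} hf := ⟨neg_mem hf.1, fun v => by simp [hf.2 v]⟩

theorem card_mul_card_le_local (N : AddSubgroup (V →+ C)) (S : Subring (AddMonoid.End V))
    (hN : ∀ f ∈ N, ∀ q ∈ S, AddMonoidHom.comp f q ∈ N)
    (hstrict : ∀ E ≤ N, E ≠ ⊥ → ∀ K : AddSubgroup V, (∀ f ∈ E, ∀ v ∈ K, f v = 0) →
      Nat.card E * Nat.card K < Nat.card V)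
    {Y : AddSubgroup V} (hY : ∀ q ∈ S, ∀ y ∈ Y, q y ∈ Y)
    (hirr : ∀ Y' ≤ Y, Y' ≠ ⊥ → (∀ q ∈ S, ∀ y ∈ Y', q y ∈ Y') → Y' = Y)
    {e : AddMonoid.End V} (heS : e ∈ S) (hee : e * e = e)
    (hloc : ∀ i ∈ S, i * i = i → e * i = i → i * e = i → i = 0 ∨ i = e) :
    Nat.card (fixComp N e) * Nat.card (Y.map e) ≤ Nat.card (AddMonoidHom.range e) := by
  classical
  have hstr : fixComp N e ≠ ⊥ → Nat.card (fixComp N e) < Nat.card (AddMonoidHom.range e) := by
    intro hne
    have h := hstrict _ (fun f hf => (show f ∈ N ∧ _ from hf).1) hne (AddMonoidHom.ker e) fun f hf v hv => by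
      rw [← hf.2 v, show e v = 0 from hv, map_zero]
    have h3 : (AddMonoidHom.ker e).index = Nat.card (AddMonoidHom.range e) := AddSubgroup.index_ker _
    rw [← AddSubgroup.card_mul_index (AddMonoidHom.ker e), h3,
      mul_comm (Nat.card (AddMonoidHom.ker e))] at h
    exact Nat.lt_of_mul_lt_mul_right h
  by_cases hYe : Y.map e = ⊥
  · rw [hYe, AddSubgroup.card_bot, mul_one]
    rcases eq_or_ne (fixComp N e) ⊥ with h | h
    · rw [h, AddSubgroup.card_bot]; exact Nat.card_pos
    · exact (hstr h).le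
  obtain ⟨y₀, hy₀, hy₀0⟩ := (AddSubgroup.bot_or_exists_ne_zero _).resolve_left hYe
  have hfixY : ∀ y ∈ Y.map e, y ∈ Y ∧ e y = y := by
    rintro _ ⟨x, hx, rfl⟩
    exact ⟨hY e heS x hx, by
      show (e * e) x = e x
      rw [hee]⟩
  let R : AddSubgroup (AddMonoid.End V) :=
    { carrier := {q | q ∈ S ∧ e * q = q ∧ q * e = q}
      zero_mem' := ⟨zero_mem S, mul_zero _, zero_mul _⟩
      add_mem' := fun {a b} ha hb =>
        ⟨add_mem ha.1 hb.1, by rw [mul_add, ha.2.1, hb.2.1], by rw [add_mul, ha.2.2, hb.2.2]⟩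
      neg_mem' := fun {a} ha =>
        ⟨neg_mem ha.1, by rw [mul_neg, ha.2.1], by rw [neg_mul, ha.2.2]⟩ }
  have hRmul : ∀ {p q : AddMonoid.End V}, p ∈ R → q ∈ R → p * q ∈ R := fun {p q} hp hq =>
    ⟨mul_mem hp.1 hq.1, by rw [← mul_assoc, hp.2.1], by rw [mul_assoc, hq.2.2]⟩
  have hRpow : ∀ {q : AddMonoid.End V}, q ∈ R → ∀ n, q ^ (n + 1) ∈ R := fun {q} hq n => by
    induction n with
    | zero => simpa using hq
    | succ n ih => rw [pow_succ]; exact hRmul ih hq
  have hRY : ∀ {q : AddMonoid.End V}, q ∈ R → ∀ y ∈ Y, q y ∈ Y.map e := fun {q} hq y hy =>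
    ⟨q y, hY q hq.1 y hy, congrArg (fun r : AddMonoid.End V => r y) hq.2.1⟩
  have hcases : ∀ q ∈ R, (∃ n, q ^ (n + 1) = 0) ∨ ∃ n, q ^ (n + 1) = e := fun q hq => by
    obtain ⟨n, hn⟩ := exists_pow_idempotent q
    obtain ⟨h1, h2, h3⟩ := hRpow hq n
    exact (hloc _ h1 hn h2 h3).imp (fun h => ⟨n, h⟩) fun h => ⟨n, h⟩
  have hunit_inj : ∀ {q : AddMonoid.End V} {n : ℕ}, q ^ (n + 1) = e → ∀ v, e v = v → q v = 0 →
      v = 0 := fun {q n} hn v hv hqv => by
    rw [← hv, ← hn, pow_succ]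
    show (q ^ n) (q v) = 0
    rw [hqv, map_zero]
  have hnil_kill : ∀ q ∈ R, (∃ n, q ^ (n + 1) = 0) → ∀ y ∈ Y.map e, q y = 0 := by
    rintro q hq ⟨n, hn⟩ y hy
    by_contra hqy
    let Y' : AddSubgroup V := S.toAddSubgroup.map (endEval (q y))
    have hY' : Y' = Y := hirr Y'
      (by rintro _ ⟨s, hs, rfl⟩; exact hY s hs _ (hY q hq.1 y (hfixY y hy).1))
      (fun h => hqy ((AddSubgroup.mem_bot).1 (h ▸ ⟨1, one_mem S, rfl⟩ : q y ∈ (⊥ : AddSubgroup V))))
      (fun s hs _ ⟨t, ht, hty⟩ => ⟨s * t, S.mul_mem hs ht, by rw [← hty]; rfl⟩)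
    obtain ⟨s, hs, hsy⟩ : y ∈ Y' := hY'.symm ▸ (hfixY y hy).1
    have ht : e * s * e ∈ R := ⟨mul_mem (mul_mem heS hs) heS, by rw [← mul_assoc, ← mul_assoc, hee],
      by rw [mul_assoc, hee]⟩
    set u := e * s * e * q with hu
    have huy : u y = y := by
      show e (s (e (q y))) = y
      rw [show e (q y) = q y from congrArg (fun r : AddMonoid.End V => r y) hq.2.1,
        show s (q y) = y from hsy, (hfixY y hy).2]
    have hupow : ∀ k, (u ^ k) y = y := fun k => by
      induction k with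
      | zero => rfl
      | succ k ih =>
        rw [pow_succ]
        show (u ^ k) (u y) = y
        rw [huy, ih]
    rcases hcases u (hRmul ht hq) with ⟨k, hk⟩ | ⟨k, hk⟩
    · exact hqy (by rw [show y = 0 from by simpa [hk] using (hupow (k + 1)).symm, map_zero])
    · have hx : u ^ k * (e * s * e) * q = e := (mul_assoc _ _ _).trans ((pow_succ u k).symm.trans hk)
      have hdesc : ∀ m, q ^ (m + 1) = 0 → q = 0 := fun m => by
        induction m with
        | zero => exact fun h => by simpa using h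
        | succ m ih =>
          intro h
          apply ih
          rw [← (hRpow hq m).2.1, ← hx, mul_assoc _ q, ← pow_succ', h, mul_zero]
      exact hqy (by rw [hdesc n hn]; rfl)
  let I : AddSubgroup R :=
    { carrier := {q | ∀ y ∈ Y.map e, (q : AddMonoid.End V) y = 0}
      zero_mem' := fun _ _ => rfl
      add_mem' := fun {a b} ha hb y hy => by
        show (a : AddMonoid.End V) y + (b : AddMonoid.End V) y = 0
        rw [ha y hy, hb y hy, add_zero]
      neg_mem' := fun {a} ha y hy => by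
        show -(a : AddMonoid.End V) y = 0
        rw [ha y hy, neg_zero] }
  have hInil : ∀ q ∈ I, ∃ n, (q : AddMonoid.End V) ^ (n + 1) = 0 := fun q hq => by
    refine (hcases q q.2).resolve_right ?_
    rintro ⟨n, hn⟩
    exact hy₀0 (hunit_inj hn y₀ (hfixY y₀ hy₀).2 (hq y₀ hy₀))
  have hIunit : ∀ q, q ∉ I → ∃ n, (q : AddMonoid.End V) ^ (n + 1) = e := fun q hq =>
    (hcases q q.2).resolve_left fun h => hq (hnil_kill q q.2 h)
  -- the residue order
  let ev : R →+ V := (endEval y₀).comp R.subtype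
  have hidx : I.index = Nat.card (Y.map e) := by
    have h1 : I = ev.ker := by
      ext q
      refine ⟨fun h => h y₀ hy₀, fun h => ?_⟩
      by_contra hq
      obtain ⟨n, hn⟩ := hIunit q hq
      exact hy₀0 (hunit_inj hn y₀ (hfixY y₀ hy₀).2 h)
    have h2 : ev.range = Y.map e := by
      refine le_antisymm (by rintro _ ⟨q, rfl⟩; exact hRY q.2 y₀ (hfixY y₀ hy₀).1) ?_
      intro y hy
      let Y' : AddSubgroup V := S.toAddSubgroup.map (endEval y₀)
      have hY' : Y' = Y := hirr Y'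
        (by rintro _ ⟨s, hs, rfl⟩; exact hY s hs _ (hfixY y₀ hy₀).1)
        (fun h => hy₀0 ((AddSubgroup.mem_bot).1 (h ▸ ⟨1, one_mem S, rfl⟩ : y₀ ∈ (⊥ : AddSubgroup V))))
        (fun s hs _ ⟨t, ht, hty⟩ => ⟨s * t, S.mul_mem hs ht, by rw [← hty]; rfl⟩)
      obtain ⟨s, hs, hsy⟩ : y ∈ Y' := hY'.symm ▸ (hfixY y hy).1
      refine ⟨⟨e * s * e, mul_mem (mul_mem heS hs) heS, by rw [← mul_assoc, ← mul_assoc, hee],
        by rw [mul_assoc, hee]⟩, ?_⟩
      show e (s (e y₀)) = y
      rw [(hfixY y₀ hy₀).2, show s y₀ = y from hsy, (hfixY y hy).2]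
    rw [h1, AddSubgroup.index_ker, h2]
  -- the action on the image of `e`
  have hRrange : ∀ q : R, ∀ v ∈ AddMonoidHom.range e, (q : AddMonoid.End V) v ∈ AddMonoidHom.range e :=
    fun q v _ => ⟨(q : AddMonoid.End V) v, congrArg (fun r : AddMonoid.End V => r v) q.2.2.1⟩
  have hfixr : ∀ v ∈ AddMonoidHom.range e, e v = v := by
    rintro _ ⟨x, rfl⟩
    exact congrArg (fun r : AddMonoid.End V => r x) hee
  let ψ₁ : R →+ AddMonoid.End ↥(AddMonoidHom.range e) :=
    { toFun := fun q => (((q : AddMonoid.End V) : V →+ V).comp (AddMonoidHom.range e).subtype).codRestrict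
        _ fun v => hRrange q v v.2
      map_zero' := rfl
      map_add' := fun _ _ => rfl }
  have hψ₁pow : ∀ (q : R) (n : ℕ) (v : ↥(AddMonoidHom.range e)),
      (((ψ₁ q ^ n) v : ↥(AddMonoidHom.range e)) : V) = ((q : AddMonoid.End V) ^ n) v := fun q n => by
    induction n with
    | zero => exact fun v => rfl
    | succ n ih =>
      intro v
      rw [pow_succ, pow_succ]
      exact ih (ψ₁ q v)
  obtain ⟨a, ha⟩ := exists_card_eq_pow ψ₁ I (e := ⟨e, heS, hee, hee⟩)
    (AddMonoidHom.ext fun v => Subtype.ext (hfixr v v.2))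
    (fun q hq => by
      obtain ⟨n, hn⟩ := hInil q hq
      exact ⟨n + 1, AddMonoidHom.ext fun v => Subtype.ext
        ((hψ₁pow q (n + 1) v).trans (congrArg (fun r : AddMonoid.End V => r v) hn))⟩)
    (fun q hq v w hvw => by
      obtain ⟨n, hn⟩ := hIunit q hq
      refine sub_eq_zero.1 (Subtype.ext ?_)
      refine hunit_inj hn _ (hfixr _ (v - w).2) ?_
      have : (q : AddMonoid.End V) v = (q : AddMonoid.End V) w := congrArg Subtype.val hvw
      rw [AddSubgroup.coe_sub, map_sub, this, sub_self])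
    (fun p q => ⟨⟨p * q, hRmul p.2 q.2⟩, rfl⟩)
    (fun p q hq => ⟨⟨p * q, hRmul p.2 q.2⟩, fun y hy => by
      show (p : AddMonoid.End V) ((q : AddMonoid.End V) y) = 0
      rw [hq y hy, map_zero], rfl⟩)
    ⊤ (fun _ _ _ => trivial)
  rw [AddSubgroup.card_top, hidx] at ha
  -- the action on `N e`
  have hNcomp : ∀ q : R, ∀ f ∈ fixComp N e, AddMonoidHom.comp f (q : AddMonoid.End V) ∈ fixComp N e :=
    fun q f hf => ⟨hN f hf.1 q q.2.1, fun v => by
      show f ((q : AddMonoid.End V) (e v)) = f ((q : AddMonoid.End V) v)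
      rw [show (q : AddMonoid.End V) (e v) = (q : AddMonoid.End V) v from
        congrArg (fun r : AddMonoid.End V => r v) q.2.2.2]⟩
  let ψ₂ : R →+ AddMonoid.End ↥(fixComp N e) :=
    { toFun := fun q => AddMonoidHom.mk'
        (fun f => ⟨AddMonoidHom.comp (f : V →+ C) (q : AddMonoid.End V), hNcomp q f f.2⟩)
        fun f g => Subtype.ext (AddMonoidHom.ext fun v => rfl)
      map_zero' := AddMonoidHom.ext fun f => Subtype.ext (AddMonoidHom.ext fun v => map_zero (f : V →+ C))
      map_add' := fun p q => AddMonoidHom.ext fun f => Subtype.ext (AddMonoidHom.ext fun v =>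
        map_add (f : V →+ C) _ _) }
  have hψ₂pow : ∀ (q : R) (n : ℕ) (f : ↥(fixComp N e)) (v : V),
      (((ψ₂ q ^ n) f : ↥(fixComp N e)) : V →+ C) v = (f : V →+ C) (((q : AddMonoid.End V) ^ n) v) :=
    fun q n => by
    induction n with
    | zero => exact fun f v => rfl
    | succ n ih =>
      intro f v
      rw [pow_succ, pow_succ']
      exact ih (ψ₂ q f) v
  obtain ⟨b, hb⟩ := exists_card_eq_pow ψ₂ I (e := ⟨e, heS, hee, hee⟩)
    (AddMonoidHom.ext fun f => Subtype.ext (AddMonoidHom.ext fun v => f.2.2 v))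
    (fun q hq => by
      obtain ⟨n, hn⟩ := hInil q hq
      exact ⟨n + 1, AddMonoidHom.ext fun f => Subtype.ext (AddMonoidHom.ext fun v =>
        (hψ₂pow q (n + 1) f v).trans ((congrArg (f : V →+ C)
          (congrArg (fun r : AddMonoid.End V => r v) hn)).trans (map_zero _)))⟩)
    (fun q hq f g hfg => by
      obtain ⟨n, hn⟩ := hIunit q hq
      refine Subtype.ext (AddMonoidHom.ext fun v => ?_)
      have hev : e v = (q : AddMonoid.End V) (((q : AddMonoid.End V) ^ n) v) :=
        congrArg (fun r : AddMonoid.End V => r v) (hn.symm.trans (pow_succ' _ _))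
      rw [← f.2.2 v, ← g.2.2 v, hev]
      exact DFunLike.congr_fun (congrArg Subtype.val hfg) (((q : AddMonoid.End V) ^ n) v))
    (fun p q => ⟨⟨q * p, hRmul q.2 p.2⟩, rfl⟩)
    (fun p q hq => ⟨⟨q * p, hRmul q.2 p.2⟩, fun y hy => by
      show (q : AddMonoid.End V) ((p : AddMonoid.End V) y) = 0
      exact hq _ (hRY p.2 y (hfixY y hy).1), rfl⟩)
    ⊤ (fun _ _ _ => trivial)
  rw [AddSubgroup.card_top, hidx] at hb
  have hq0 : 1 < Nat.card (Y.map e) := by
    have : Nontrivial (Y.map e) := ⟨⟨⟨y₀, hy₀⟩, 0, fun h => hy₀0 (congrArg Subtype.val h)⟩⟩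
    exact Finite.one_lt_card
  have hlt : Nat.card (fixComp N e) < Nat.card (AddMonoidHom.range e) := by
    rcases eq_or_ne (fixComp N e) ⊥ with h | h
    · rw [h, AddSubgroup.card_bot]
      have : Nontrivial (AddMonoidHom.range e) :=
        ⟨⟨⟨y₀, y₀, (hfixY y₀ hy₀).2⟩, 0, fun h => hy₀0 (congrArg Subtype.val h)⟩⟩
      exact Finite.one_lt_card
    · exact hstr h
  rw [ha, hb] at hlt ⊢
  rw [← pow_succ]
  exact Nat.pow_le_pow_right hq0.le ((Nat.pow_lt_pow_iff_right hq0).1 hlt)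

/-- If no subgroup of `N` is as large as the index of its common kernel, `|N| |Y| ≤ |V|`. -/
theorem card_mul_card_le (N : AddSubgroup (V →+ C)) (S : Subring (AddMonoid.End V))
    (hN : ∀ f ∈ N, ∀ q ∈ S, AddMonoidHom.comp f q ∈ N)
    (hstrict : ∀ E ≤ N, E ≠ ⊥ → ∀ K : AddSubgroup V, (∀ f ∈ E, ∀ v ∈ K, f v = 0) →
      Nat.card E * Nat.card K < Nat.card V)
    {Y : AddSubgroup V} (hY : ∀ q ∈ S, ∀ y ∈ Y, q y ∈ Y)
    (hirr : ∀ Y' ≤ Y, Y' ≠ ⊥ → (∀ q ∈ S, ∀ y ∈ Y', q y ∈ Y') → Y' = Y) :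
    Nat.card N * Nat.card Y ≤ Nat.card V := by
  classical
  suffices H : ∀ (n : ℕ) (e : AddMonoid.End V), Nat.card (AddMonoidHom.range e) = n → e ∈ S →
      e * e = e → Nat.card (fixComp N e) * Nat.card (Y.map e) ≤ Nat.card (AddMonoidHom.range e) by
    have h := H _ 1 rfl (one_mem S) (mul_one 1)
    rwa [show fixComp N 1 = N from AddSubgroup.ext fun f => ⟨fun hf => hf.1, fun hf => ⟨hf, fun _ => rfl⟩⟩,
      show Y.map (1 : AddMonoid.End V) = Y from AddSubgroup.map_id Y,
      show AddMonoidHom.range (1 : AddMonoid.End V) = ⊤ from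
        AddMonoidHom.range_eq_top.2 fun v => ⟨v, rfl⟩, AddSubgroup.card_top] at h
  intro n
  induction n using Nat.strongRecOn with
  | ind n ih =>
  intro e hn heS hee
  by_cases hloc : ∀ i ∈ S, i * i = i → e * i = i → i * e = i → i = 0 ∨ i = e
  · exact card_mul_card_le_local N S hN hstrict hY hirr heS hee hloc
  push Not at hloc
  obtain ⟨i, hiS, hii, hei, hie, hi0, hie'⟩ := hloc
  set k := e - i with hk
  have hkk : k * k = k := by rw [hk]; simp [mul_sub, sub_mul, hee, hii, hei, hie]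
  have hik : i * k = 0 := by rw [hk, mul_sub, hii, hie, sub_self]
  have hki : k * i = 0 := by rw [hk, sub_mul, hii, hei, sub_self]
  have hek : ∀ v, e v = i v + k v := fun v => by
    rw [hk]; show e v = i v + (e v - i v); abel
  have h1 : Nat.card (AddMonoidHom.range i) * Nat.card (AddMonoidHom.range k) ≤
      Nat.card (AddMonoidHom.range e) := by
    rw [← Nat.card_prod]
    refine Nat.card_le_card_of_injective
      (fun p => (⟨(p.1 : V) + (p.2 : V), ?_⟩ : AddMonoidHom.range e)) ?_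
    · obtain ⟨⟨_, x, rfl⟩, ⟨_, y, rfl⟩⟩ := p
      refine ⟨i x + k y, ?_⟩
      show e (i x + k y) = i x + k y
      have hek' : e * k = k := by rw [hk, mul_sub, hee, hei]
      rw [map_add]
      exact congrArg₂ (· + ·) (congrArg (fun r : AddMonoid.End V => r x) hei)
        (congrArg (fun r : AddMonoid.End V => r y) hek')
    · rintro ⟨⟨_, x, rfl⟩, ⟨_, y, rfl⟩⟩ ⟨⟨_, x', rfl⟩, ⟨_, y', rfl⟩⟩ h
      have h' : i x + k y = i x' + k y' := congrArg Subtype.val h
      have h2 := congrArg i h'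
      simp only [map_add] at h2
      change (i * i) x + (i * k) y = (i * i) x' + (i * k) y' at h2
      rw [hii, hik] at h2
      simp only [AddMonoid.End.zero_apply, add_zero] at h2
      rw [h2, add_right_inj] at h'
      exact Prod.ext (Subtype.ext h2) (Subtype.ext h')
  have hpos : ∀ q : AddMonoid.End V, q ≠ 0 → 1 < Nat.card (AddMonoidHom.range q) := fun q hq => by
    obtain ⟨v, hv⟩ : ∃ v, q v ≠ 0 := by
      by_contra h; push Not at h; exact hq (AddMonoidHom.ext h)
    have : Nontrivial (AddMonoidHom.range q) :=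
      ⟨⟨⟨q v, v, rfl⟩, 0, fun h => hv (congrArg Subtype.val h)⟩⟩
    exact Finite.one_lt_card
  have hk0 : k ≠ 0 := fun h => hie' (sub_eq_zero.1 h).symm
  have hA := hpos i hi0
  have hB := hpos k hk0
  have hib := ih _ (by nlinarith) i rfl hiS hii
  have hkb := ih _ (by nlinarith) k rfl (sub_mem heS hiS) hkk
  have h2 : Nat.card (fixComp N e) ≤ Nat.card (fixComp N i) * Nat.card (fixComp N k) := by
    rw [← Nat.card_prod]
    refine Nat.card_le_card_of_injective (fun f =>
      ((⟨AddMonoidHom.comp (f : V →+ C) i, hN _ f.2.1 i hiS, fun v => congrArg (f : V →+ C)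
          (congrArg (fun r : AddMonoid.End V => r v) hii)⟩ : fixComp N i),
       (⟨AddMonoidHom.comp (f : V →+ C) k, hN _ f.2.1 k (sub_mem heS hiS), fun v => congrArg (f : V →+ C)
          (congrArg (fun r : AddMonoid.End V => r v) hkk)⟩ : fixComp N k))) ?_
    intro f g h
    refine Subtype.ext (AddMonoidHom.ext fun v => ?_)
    rw [← f.2.2 v, ← g.2.2 v, hek, map_add, map_add]
    exact congrArg₂ (· + ·) (DFunLike.congr_fun (congrArg (fun z => (z.1 : V →+ C)) h) v)
      (DFunLike.congr_fun (congrArg (fun z => (z.2 : V →+ C)) h) v)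
  have h3 : Nat.card (Y.map e) ≤ Nat.card (Y.map i) * Nat.card (Y.map k) := by
    rw [← Nat.card_prod]
    have hmem : ∀ y : Y.map e, ∃ x ∈ Y, e x = y := fun y => y.2
    choose x hx hxe using hmem
    refine Nat.card_le_card_of_injective (fun y =>
      ((⟨i (x y), x y, hx y, rfl⟩ : Y.map i), (⟨k (x y), x y, hx y, rfl⟩ : Y.map k))) ?_
    intro y y' h
    have ha : i (x y) = i (x y') := congrArg (fun z => (z.1 : V)) h
    have hb : k (x y) = k (x y') := congrArg (fun z => (z.2 : V)) h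
    exact Subtype.ext (by rw [← hxe y, ← hxe y', hek, hek, ha, hb])
  calc Nat.card (fixComp N e) * Nat.card (Y.map e)
      ≤ Nat.card (fixComp N i) * Nat.card (fixComp N k) * (Nat.card (Y.map i) * Nat.card (Y.map k)) :=
        Nat.mul_le_mul h2 h3
    _ = Nat.card (fixComp N i) * Nat.card (Y.map i) * (Nat.card (fixComp N k) * Nat.card (Y.map k)) := by
        ring
    _ ≤ _ := (Nat.mul_le_mul hib hkb).trans h1

end CfsgLib.NoOffender
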