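import Cfsg.Agent.NoOffender.Offenders
import Cfsg.Agent.PLocal.Thompson
import Cfsg.Agent.PLocal.Cores
import Cfsg.Agent.PLocal.Replacement
import Cfsg.Agent.ConjFunctor.Sections
import Cfsg.Agent.ConjFunctor.Constrained
import Cfsg.Agent.NoOffender.Idempotent
import Cfsg.Agent.S2759

/-!
From the absence of offenders to the factorization `Y = C(Z(S)) N(J_e(S))` of a constrained group
in which `S₄` is not involved.
-/

set_option autoImplicit false

universe u

namespace CfsgLib.NoOffender

open Cfsg Subgroup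
open scoped IsMulCommutative

/-- No offender for faithful actions with trivial `O₂` of `S₃`-free groups of order less than `n`. -/
def OffBound (n : ℕ) : Prop :=
  ∀ (X : Type u) (V : Type u) [Group X] [AddCommGroup V] [DistribMulAction X V] [FaithfulSMul X V]
    [Finite X] [Finite V], Nat.card X < n → (∀ v : V, v + v = 0) → pCore 2 X = ⊥ →
    ¬ Involves (Equiv.Perm (Fin 3)) X → ∀ B : Subgroup X, ¬ OffOn B (⊤ : AddSubgroup V)

theorem OffBound.mono {m n : ℕ} (h : OffBound.{u} n) (hmn : m ≤ n) : OffBound.{u} m :=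
  fun X V _ _ _ _ _ _ hX => h X V (hX.trans_le hmn)

variable {Y : Type u} [Group Y]

/-- The action of a group on an abelian normal subgroup, additively. -/
def conjAdd (N : Subgroup Y) [N.Normal] [IsMulCommutative N] : Y →* AddMonoid.End (Additive N) where
  toFun g := MonoidHom.toAdditive (MulAut.conjNormal g : MulAut N).toMonoidHom
  map_one' := by ext x; simp; rfl
  map_mul' a b := by ext x; simp; rfl

theorem conjAdd_apply (N : Subgroup Y) [N.Normal] [IsMulCommutative N] (g : Y) (x : Additive N) :
    (((conjAdd N g x).toMul : N) : Y) = g * (x.toMul : N) * g⁻¹ :=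
  MulAut.conjNormal_apply g x.toMul

/-- The automizer of an abelian normal subgroup. -/
abbrev autGrp (N : Subgroup Y) [N.Normal] [IsMulCommutative N] :
    Subgroup (AddMonoid.End (Additive N))ˣ := (conjAdd N).toHomUnits.range

theorem rangeRestrict_smul (N : Subgroup Y) [N.Normal] [IsMulCommutative N] (g : Y)
    (x : Additive N) : (conjAdd N).toHomUnits.rangeRestrict g • x = conjAdd N g x := rfl

theorem ker_autGrp (N : Subgroup Y) [N.Normal] [IsMulCommutative N] :
    (conjAdd N).toHomUnits.rangeRestrict.ker = Subgroup.centralizer (N : Set Y) := by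
  ext g
  rw [MonoidHom.ker_rangeRestrict, MonoidHom.mem_ker, mem_centralizer_iff]
  constructor
  · intro h v hv
    have h1 : conjAdd N g (Additive.ofMul ⟨v, hv⟩) = Additive.ofMul ⟨v, hv⟩ :=
      congrArg (fun z : AddMonoid.End (Additive N) => z (Additive.ofMul ⟨v, hv⟩))
        (congrArg Units.val h :)
    have h2 := congrArg (fun z : Additive N => ((z.toMul : N) : Y)) h1
    simp only [conjAdd_apply] at h2
    exact (mul_inv_eq_iff_eq_mul.1 h2).symm
  · intro h
    refine Units.ext (AddMonoidHom.ext fun x => ?_)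
    apply Additive.toMul.injective
    exact Subtype.ext ((conjAdd_apply N g x).trans
      (mul_inv_eq_iff_eq_mul.2 (h _ (x.toMul : N).2).symm))

variable [Finite Y]

theorem not_involves_s3_autGrp (hfree : ¬ Involves (Equiv.Perm (Fin 4)) Y) (N : Subgroup Y) [N.Normal]
    [IsMulCommutative N] (hN : IsPGroup 2 N) : ¬ Involves (Equiv.Perm (Fin 3)) (autGrp N) := by
  intro h
  refine hfree (Cfsg.Agent.S2759.sufficiency N hN (ConjFunctor.involves_trans ?_ h))
  let f : ↥(normalizer (N : Set Y)) →* autGrp N :=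
    (conjAdd N).toHomUnits.rangeRestrict.comp (normalizer (N : Set Y)).subtype
  have hf : Function.Surjective f := fun z => by
    obtain ⟨g, hg⟩ := (conjAdd N).toHomUnits.rangeRestrict_surjective z
    exact ⟨⟨g, normalizer_eq_top (H := N) ▸ mem_top g⟩, hg⟩
  have hk : f.ker = (Subgroup.centralizer (N : Set Y)).subgroupOf (normalizer (N : Set Y)) := by
    rw [subgroupOf, ← ker_autGrp N, MonoidHom.comap_ker]
  exact ConjFunctor.involves_equiv
    ((QuotientGroup.quotientMulEquivOfEq hk.symm).trans (QuotientGroup.quotientKerEquivOfSurjective f hf))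

/-- The core of Glauberman's factorization theorem. -/
theorem factor_of_noOffender {n : ℕ} (hoff : OffBound.{u} n) (hn : Nat.card Y ≤ n)
    (hc : Subgroup.centralizer (pCore 2 Y : Set Y) ≤ pCore 2 Y)
    (hfree : ¬ Involves (Equiv.Perm (Fin 4)) Y) (S : Sylow 2 Y) (g : Y) :
    ∃ c ∈ Subgroup.centralizer
        (((S : Subgroup Y) ⊓ Subgroup.centralizer ((S : Subgroup Y) : Set Y) : Subgroup Y) : Set Y),
      ∃ m ∈ normalizer ((thompsonSubgroupOf 2 (S : Subgroup Y)) : Set Y), g = c * m := by
  classical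
  set Z := (S : Subgroup Y) ⊓ Subgroup.centralizer ((S : Subgroup Y) : Set Y) with hZ
  set Q := pCore 2 Y with hQ
  have hQn : Q.Normal := inferInstance
  have hQS : Q ≤ S := PLocal.pCore_le_sylow S
  -- the normal subgroup generated by the involutions of the centre
  set ZQ := Q ⊓ Subgroup.centralizer (Q : Set Y) with hZQ
  have hZle : Z ≤ ZQ := fun z hz => by
    have h1 : z ∈ Subgroup.centralizer (Q : Set Y) :=
      mem_centralizer_iff.2 fun q hq => mem_centralizer_iff.1 hz.2 q (hQS hq)
    exact mem_inf.2 ⟨hc h1, h1⟩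
  haveI : IsMulCommutative ZQ :=
    ⟨⟨fun a b => Subtype.ext (mem_centralizer_iff.1 b.2.2 a a.2.1)⟩⟩
  haveI : ZQ.Normal := by rw [hZQ]; infer_instance
  -- the normal subgroup generated by the centre, and its involutions
  set V' := normalClosure (Z : Set Y) with hV'
  have hV'le : V' ≤ ZQ := normalClosure_le_normal hZle
  haveI hV'c : IsMulCommutative V' := PLocal.isMulCommutative_of_le ‹_› hV'le
  set V := omegaOne 2 V' with hV
  have hVV' : V ≤ V' := PLocal.omegaOne_le 2 V'
  have hVel : IsElementaryAbelian 2 V := PLocal.isElementaryAbelian_omegaOne hV'c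
  haveI hVn : V.Normal := by
    refine normalizer_eq_top_iff.1 (eq_top_iff.2 fun y _ => ConjFunctor.mem_normalizer_of_cj_le ?_)
    rw [PLocal.map_omegaOne (f := (MulAut.conj y).toMonoidHom) (MulAut.conj y).injective]
    refine PLocal.omegaOne_mono ?_
    rintro _ ⟨a, ha, rfl⟩
    exact (inferInstance : V'.Normal).conj_mem a ha y
  haveI : IsMulCommutative V := hVel.1
  have hVp : IsPGroup 2 V := PLocal.isPGroup_of_isElementaryAbelian hVel
  have hV'S : V' ≤ S := hV'le.trans (inf_le_left.trans hQS)
  set C' := Subgroup.centralizer (V' : Set Y) with hC'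
  -- a normal subgroup inside `C(V') S` centralises `V'`
  have hred : ∀ K : Subgroup Y, K.Normal → K ≤ C' ⊔ (S : Subgroup Y) → K ≤ C' := by
    intro K hKn hKS
    have hKz : ∀ z ∈ Z, K ≤ Subgroup.centralizer ({z} : Set Y) := fun z hz =>
      hKS.trans (sup_le
        (fun c hc' => mem_centralizer_singleton_iff.2
          (mem_centralizer_iff.1 hc' z (subset_normalClosure hz)).symm)
        fun s hs => mem_centralizer_singleton_iff.2 (mem_centralizer_iff.1 hz.2 s hs))
    intro k hk
    rw [hC', mem_centralizer_iff]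
    intro v hv
    suffices hle : V' ≤ Subgroup.centralizer ({k} : Set Y) from
      mem_centralizer_singleton_iff.1 (hle hv)
    rw [hV', normalClosure, closure_le]
    intro y hy
    obtain ⟨z, hz, hconj⟩ := Group.mem_conjugatesOfSet_iff.1 hy
    obtain ⟨a, rfl⟩ := isConj_iff.1 hconj
    refine mem_centralizer_singleton_iff.2 ?_
    have h1 : a⁻¹ * k * a ∈ K := by simpa using hKn.conj_mem k hk a⁻¹
    have h2 := mem_centralizer_singleton_iff.1 (hKz z hz h1)
    calc a * z * a⁻¹ * k = a * (z * (a⁻¹ * k * a)) * a⁻¹ := by group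
      _ = a * ((a⁻¹ * k * a) * z) * a⁻¹ := by rw [h2]
      _ = k * (a * z * a⁻¹) := by group
  set C := Subgroup.centralizer (V : Set Y) with hC
  -- odd elements centralising the involutions of `V'` centralise `V'`
  have hodd : ∀ c ∈ C, Odd (orderOf c) → c ∈ C' := by
    intro c hc' hco
    suffices H : ∀ (k : ℕ), ∀ a ∈ V', a ^ 2 ^ k = 1 → c * a * c⁻¹ = a by
      refine mem_centralizer_iff.2 fun a ha => ?_
      obtain ⟨k, hk⟩ := (S.isPGroup'.to_le hV'S) ⟨a, ha⟩
      exact (mul_inv_eq_iff_eq_mul.1 (H k a ha (congrArg Subtype.val hk :))).symm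
    intro k
    induction k with
    | zero => intro a _ h; simp at h; subst h; simp
    | succ k ih =>
      intro a ha h
      have hcm : ∀ x ∈ V', ∀ y ∈ V', x * y = y * x := fun x hx y hy =>
        congrArg Subtype.val (mul_comm' (⟨x, hx⟩ : V') ⟨y, hy⟩)
      have h2 := ih (a ^ 2) (pow_mem ha 2) (by rw [← pow_mul, ← pow_succ']; exact h)
      set t := a⁻¹ * (c * a * c⁻¹) with ht
      have hca : c * a * c⁻¹ ∈ V' := (inferInstance : V'.Normal).conj_mem a ha c
      have htV : t ∈ V := by
        refine PLocal.mem_omegaOne (mul_mem (inv_mem ha) hca) ?_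
        rw [(show Commute a⁻¹ (c * a * c⁻¹) from hcm _ (inv_mem ha) _ hca).mul_pow, conj_pow, h2,
          inv_pow, inv_mul_cancel]
      have hct : c * t * c⁻¹ = t := by
        rw [← mem_centralizer_iff.1 hc' t htV, mul_inv_cancel_right]
      have hpow : ∀ j : ℕ, c ^ j * a * (c ^ j)⁻¹ = a * t ^ j := fun j => by
        induction j with
        | zero => simp
        | succ j ihj =>
          have hca' : c * a * c⁻¹ = a * t := by rw [ht, mul_inv_cancel_left]
          calc c ^ (j + 1) * a * (c ^ (j + 1))⁻¹ = c * (c ^ j * a * (c ^ j)⁻¹) * c⁻¹ := by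
                rw [pow_succ']; group
            _ = c * a * c⁻¹ * (c * t * c⁻¹) ^ j := by rw [ihj, conj_pow]; group
            _ = a * t ^ (j + 1) := by rw [hca', hct, pow_succ']; group
      have h3 := hpow (orderOf c)
      rw [pow_orderOf_eq_one, one_mul, inv_one, mul_one, eq_comm, mul_eq_left] at h3
      obtain ⟨r, hr⟩ := hco
      rw [hr, pow_succ, pow_mul, hVel.2 t htV, one_pow, one_mul] at h3
      rw [ht, inv_mul_eq_one] at h3
      exact h3.symm
  have hCC' : C = C' := by
    refine le_antisymm (hred C inferInstance fun c hc' => ?_) (centralizer_le hVV')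
    -- `C / C'` is a `2`-group
    let π := QuotientGroup.mk' C'
    have hp2 : IsPGroup 2 (C.map π) := by
      rintro ⟨_, x, hx, rfl⟩
      obtain ⟨a, m, hm, he⟩ := Nat.exists_eq_pow_mul_and_not_dvd (orderOf_pos x).ne' 2 (by norm_num)
      refine ⟨a, Subtype.ext ?_⟩
      rw [SubgroupClass.coe_pow, OneMemClass.coe_one]
      show π x ^ 2 ^ a = 1
      rw [← map_pow]
      refine (QuotientGroup.eq_one_iff _).2 (hodd _ (pow_mem hx _) ?_)
      rw [orderOf_pow, he, Nat.gcd_mul_right_left,
        Nat.mul_div_cancel_left _ (pow_pos (by norm_num) a)]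
      exact Nat.odd_iff.2 (Nat.two_dvd_ne_zero.1 hm)
    have h1 : C.map π ≤ (S : Subgroup Y).map π :=
      haveI : (C.map π).Normal := (inferInstance : C.Normal).map π (QuotientGroup.mk'_surjective C')
      (PLocal.le_pCore hp2).trans
        (PLocal.pCore_le_sylow (S.mapSurjective (QuotientGroup.mk'_surjective C')))
    have h2 : C ≤ ((S : Subgroup Y).map π).comap π := map_le_iff_le_comap.1 h1
    rw [comap_map_eq, QuotientGroup.ker_mk', sup_comm] at h2
    exact h2 hc'
  let f := (conjAdd V).toHomUnits.rangeRestrict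
  have hfs : Function.Surjective f := (conjAdd V).toHomUnits.rangeRestrict_surjective
  have hker : f.ker = C := ker_autGrp V
  have hQC : Q ≤ C := fun q hq => mem_centralizer_iff.2 fun v hv =>
    (mem_centralizer_iff.1 (hV'le (hVV' hv)).2 q hq).symm
  -- `O₂` of the automizer is trivial
  have hO : pCore 2 (autGrp V) = ⊥ := by
    set K := (pCore 2 (autGrp V)).comap f with hK
    have hKS : K ≤ C ⊔ (S : Subgroup Y) := by
      have h1 : pCore 2 (autGrp V) ≤ (S : Subgroup Y).map f :=
        PLocal.pCore_le_sylow (S.mapSurjective hfs)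
      rw [hK, ← hker, sup_comm, ← comap_map_eq]
      exact comap_mono h1
    have hKC : K ≤ C := hCC' ▸ hred K inferInstance (hCC' ▸ hKS)
    rw [eq_bot_iff]
    intro x hx
    obtain ⟨k, rfl⟩ := hfs x
    exact (MonoidHom.mem_ker (f := f)).1 (hker.symm ▸ hKC hx)
  -- no offender
  have hJ : thompsonSubgroupOf 2 (S : Subgroup Y) ≤ C := by
    by_contra hJ
    obtain ⟨E, hE, hEC⟩ : ∃ E ∈ PLocal.maxEAIn 2 (S : Subgroup Y), ¬ E ≤ C := by
      by_contra h
      push Not at h
      exact hJ (by rw [PLocal.thompsonSubgroupOf_eq]; exact sSup_le h)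
    obtain ⟨hES, hEel, hEmax⟩ := id hE
    have hEcomm : ∀ a ∈ E, ∀ b ∈ E, a * b = b * a := fun a ha b hb => by
      haveI := hEel.1
      exact congrArg Subtype.val (mul_comm' (⟨a, ha⟩ : E) ⟨b, hb⟩)
    have hsmall : Nat.card (autGrp V) < n := by
      refine lt_of_lt_of_le ?_ hn
      have hQne : C ≠ ⊥ := by
        intro h
        have hQ0 : Q = ⊥ := eq_bot_iff.2 (h ▸ hQC)
        refine hEC fun e _ => ?_
        have he : e ∈ Q := hc (mem_centralizer_iff.2 fun q hq => by
          rw [mem_bot.1 (hQ0 ▸ hq : q ∈ (⊥ : Subgroup Y))]; simp)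
        exact hQC he
      have h1 := Subgroup.card_mul_index C
      have h2 : C.index = Nat.card (autGrp V) := by
        rw [← hker, index_ker, MonoidHom.range_eq_top.2 hfs, card_top]
      have h3 : 1 < Nat.card C := (Subgroup.one_lt_card_iff_ne_bot C).2 hQne
      have h4 : 0 < C.index := Nat.pos_of_ne_zero FiniteIndex.index_ne_zero
      nlinarith
    have hVsq : ∀ v : Additive V, v + v = 0 := fun v => by
      apply Additive.toMul.injective
      show (v.toMul : V) * v.toMul = 1
      exact Subtype.ext (by rw [Subgroup.coe_mul, ← sq]; exact hVel.2 _ (v.toMul : V).2)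
    refine hoff (autGrp V) (Additive V) hsmall hVsq hO (not_involves_s3_autGrp hfree V hVp) (E.map f)
      ⟨fun _ _ _ _ => trivial, ?_, ?_, ?_⟩
    · rintro _ ⟨e, he, rfl⟩ v -
      rw [← mul_smul, ← map_mul, ← sq, hEel.2 e he, map_one, one_smul]
    · intro h
      refine hEC fun e he => ?_
      rw [← hker, MonoidHom.mem_ker]
      exact eq_of_smul_eq_smul (α := Additive V) fun v => by
        rw [one_smul]; exact h (AddSubgroup.mem_top v) _ ⟨e, he, rfl⟩
    · have hk1 : kerOn (E.map f) (⊤ : AddSubgroup (Additive V)) = ⊥ := by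
        rw [eq_bot_iff]
        intro x hx
        exact eq_of_smul_eq_smul (α := Additive V) fun v => by
          rw [one_smul]; exact (mem_kerOn.1 hx).2 v (AddSubgroup.mem_top v)
      have hEV : E ≤ normalizer (V : Set Y) := by rw [normalizer_eq_top]; exact le_top
      have hsup : IsElementaryAbelian 2 ((E ⊓ C) ⊔ V) :=
        PLocal.isElementaryAbelian_sup (PLocal.isElementaryAbelian_of_le hEel inf_le_left) hVel
          fun a ha => ha.2
      have h1 : Nat.card ↥((E ⊓ C) ⊔ V) ≤ Nat.card E :=
        hEmax _ (sup_le (inf_le_left.trans hES) (hVV'.trans hV'S)) hsup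
      have h2 := PLocal.card_sup_mul_card_inf (A := E ⊓ C) (B := V) (inf_le_left.trans hEV)
      have h3 : Nat.card ↥((E ⊓ C) ⊓ V) ≤ Nat.card ↥(V ⊓ Subgroup.centralizer (E : Set Y)) :=
        card_le_of_le fun v hv => mem_inf.2 ⟨hv.2, mem_centralizer_iff.2 fun e he =>
          hEcomm e he v hv.1.1⟩
      have h4 : Nat.card (E.map f) * Nat.card ↥(E ⊓ C) = Nat.card E := by
        rw [← relIndex_ker, hker, ← inf_relIndex_right, inf_comm, mul_comm]
        exact PLocal.card_mul_relIndex inf_le_left
      have h5 : Nat.card ↥(V ⊓ Subgroup.centralizer (E : Set Y)) =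
          Nat.card ↥((⊤ : AddSubgroup (Additive V)) ⊓ fixV (E.map f)) := by
        refine Nat.card_congr
          { toFun := fun v => ⟨Additive.ofMul ⟨v, v.2.1⟩, AddSubgroup.mem_top _, ?_⟩
            invFun := fun v => ⟨(((v : Additive V).toMul : V) : Y), ((v : Additive V).toMul : V).2, ?_⟩
            left_inv := fun _ => rfl
            right_inv := fun _ => rfl }
        · rintro _ ⟨e, he, rfl⟩
          apply Additive.toMul.injective
          refine Subtype.ext ((conjAdd_apply V e _).trans ?_)
          show e * (v : Y) * e⁻¹ = v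
          rw [mem_centralizer_iff.1 v.2.2 e he, mul_inv_cancel_right]
        · refine mem_centralizer_iff.2 fun e he => ?_
          have h6 := congrArg (fun z : Additive V => ((z.toMul : V) : Y))
            (v.2.2 (f e) ⟨e, he, rfl⟩)
          exact mul_inv_eq_iff_eq_mul.1 ((conjAdd_apply V e _).symm.trans h6)
      rw [hk1, Subgroup.card_bot, mul_one, AddSubgroup.card_top, ← h5]
      have hV' : Nat.card (Additive V) = Nat.card V := rfl
      rw [hV']
      refine Nat.le_of_mul_le_mul_right ?_ (Nat.card_pos : 0 < Nat.card ↥(E ⊓ C))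
      calc Nat.card V * Nat.card ↥(E ⊓ C) = Nat.card ↥((E ⊓ C) ⊔ V) * Nat.card ↥((E ⊓ C) ⊓ V) := by
            rw [h2, mul_comm]
        _ ≤ Nat.card E * Nat.card ↥(V ⊓ Subgroup.centralizer (E : Set Y)) := Nat.mul_le_mul h1 h3
        _ = _ := by rw [← h4]; ring
  -- the Frattini argument
  have hJ' : thompsonSubgroupOf 2 ((S : Subgroup Y) ⊓ C) = thompsonSubgroupOf 2 (S : Subgroup Y) :=
    (PLocal.thompsonSubgroupOf_eq_of_le (inf_le_left : (S : Subgroup Y) ⊓ C ≤ S)
      (le_inf (PLocal.thompsonSubgroupOf_le 2 _) hJ))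
  have htop : normalizer (((S : Subgroup Y) ⊓ C : Subgroup Y) : Set Y) ⊔ C = ⊤ := by
    have hS : ConjFunctor.IsSylowIn 2 ((S : Subgroup Y) ⊓ C) C :=
      (ConjFunctor.isSylowIn_top S).inf_of_normal le_top (by rw [normalizer_eq_top (H := C)])
    let T : Sylow 2 C := (hS.2.1.comap_subtype (K := C)).toSylow hS.2.2
    have hfr := Sylow.normalizer_sup_eq_top T
    rwa [show ((T : Subgroup C).map C.subtype) = (S : Subgroup Y) ⊓ C from
      map_subgroupOf_eq_of_le inf_le_right] at hfr
  have hg : g ∈ normalizer (((S : Subgroup Y) ⊓ C : Subgroup Y) : Set Y) ⊔ C := htop ▸ mem_top g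
  rw [sup_comm] at hg
  obtain ⟨c, hcC, m, hm, rfl⟩ := mem_sup_of_normal_left.1 hg
  have hmJ : ∀ {T : Subgroup Y}, m ∈ normalizer (T : Set Y) →
      m ∈ normalizer ((thompsonSubgroupOf 2 T) : Set Y) := fun h =>
    PLocal.normalizer_le_normalizer_thompsonSubgroupOf 2 _ h
  exact ⟨c, centralizer_le (subset_normalClosure : (Z : Set Y) ⊆ V') (show c ∈ C' from hCC' ▸ hcC), m,
    hJ' ▸ hmJ hm, rfl⟩

end CfsgLib.NoOffender
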