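import Cfsg.Agent.NoOffender.Factor
import Cfsg.Agent.ConjFunctor.MainCor

/-!
Fusion of `2`-elements in `S₄`-free groups from the absence of offenders, and the separation of
conjugates of a subgroup contained in only one maximal subgroup around a Sylow subgroup.
-/

set_option autoImplicit false

universe u

namespace CfsgLib.NoOffender

open Cfsg Subgroup
open CfsgLib.ConjFunctor

/-- The centre and the Thompson subgroup (elementary abelian version) as functors. -/
def zjFam : Set (∀ (Q : Type u) [Group Q], Subgroup Q) :=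
  {fun Q [Group Q] => Subgroup.center Q, fun Q [Group Q] => thompsonSubgroup 2 Q}

theorem isCharPFunctor_center (p : ℕ) [Fact p.Prime] :
    IsCharPFunctor.{u} p fun Q [Group Q] => Subgroup.center Q :=
  ⟨fun Q _ _ hQ _ h => by
    have := hQ.center_nontrivial
    exact (Subgroup.nontrivial_iff_ne_bot _).1 this h,
  fun Q R _ _ _ _ φ => by
    ext x
    obtain ⟨y, rfl⟩ := φ.surjective x
    constructor
    · rintro ⟨z, hz, hzy⟩
      refine Subgroup.mem_center_iff.2 fun r => ?_
      obtain ⟨s, rfl⟩ := φ.surjective r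
      rw [← φ.injective hzy, ← map_mul, ← map_mul, Subgroup.mem_center_iff.1 hz s]
    · intro hy
      refine ⟨y, Subgroup.mem_center_iff.2 fun s => φ.injective ?_, rfl⟩
      rw [map_mul, map_mul, Subgroup.mem_center_iff.1 hy (φ s)]⟩

theorem isCharPFunctor_thompson (p : ℕ) [Fact p.Prime] :
    IsCharPFunctor.{u} p fun Q [Group Q] => thompsonSubgroup p Q :=
  ⟨fun Q _ _ hQ hnt h => by
    obtain ⟨A, hA⟩ := PLocal.maxEAIn_nonempty p (⊤ : Subgroup Q)
    have hA0 : A = ⊥ := by
      rw [eq_bot_iff, ← h]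
      show A ≤ thompsonSubgroup p Q
      rw [← PLocal.thompsonSubgroupOf_top]
      exact PLocal.le_thompsonSubgroupOf hA
    obtain ⟨x, hx⟩ := exists_prime_orderOf_dvd_card' p (hQ.nontrivial_iff_card.1 hnt |>.elim
      fun n ⟨hn, he⟩ => he ▸ dvd_pow_self p hn.ne')
    have h1 := hA.2.2 (Subgroup.zpowers x) le_top
      (PLocal.isElementaryAbelian_zpowers (hx ▸ pow_orderOf_eq_one x))
    rw [hA0, Subgroup.card_bot, Nat.card_zpowers, hx] at h1
    exact absurd h1 (Nat.not_le.2 (Fact.out : p.Prime).one_lt),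
  fun Q R _ _ _ _ φ => by
    show (thompsonSubgroup p Q).map φ.toMonoidHom = thompsonSubgroup p R
    rw [← PLocal.thompsonSubgroupOf_top, PLocal.map_thompsonSubgroupOf φ.injective,
      Subgroup.map_top_of_surjective _ φ.surjective, PLocal.thompsonSubgroupOf_top]⟩

theorem zjFam_char : ∀ W ∈ zjFam.{u}, IsCharPFunctor.{u} 2 W := by
  rintro W (rfl | rfl)
  · exact isCharPFunctor_center 2
  · exact isCharPFunctor_thompson 2

theorem inducedFunctor_center {G : Type u} [Group G] (P : Subgroup G) :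
    inducedFunctor (G := G) (fun Q [Group Q] => Subgroup.center Q) P =
      P ⊓ Subgroup.centralizer (P : Set G) := by
  ext x
  constructor
  · rintro ⟨y, hy, rfl⟩
    exact ⟨y.2, mem_centralizer_iff.2 fun q hq =>
      congrArg Subtype.val (Subgroup.mem_center_iff.1 hy ⟨q, hq⟩)⟩
  · rintro ⟨hx, hx'⟩
    exact ⟨⟨x, hx⟩, Subgroup.mem_center_iff.2 fun q =>
      Subtype.ext (mem_centralizer_iff.1 hx' q q.2), rfl⟩

theorem inducedFunctor_thompson {G : Type u} [Group G] (P : Subgroup G) :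
    inducedFunctor (G := G) (fun Q [Group Q] => thompsonSubgroup 2 Q) P = thompsonSubgroupOf 2 P :=
  rfl

/-- Glauberman's fusion theorem, from the absence of offenders. -/
theorem familyFusion_of_offBound {G : Type u} [Group G] [Finite G] {n : ℕ}
    (hoff : OffBound.{u} n) (hn : Nat.card G ≤ n)
    (hfree : ¬ Involves (Equiv.Perm (Fin 4)) G) :
    FamilyControlsStrongFusionIn 2 (indFam zjFam G) ⊤ := by
  refine familyFusion_section zjFam_char (fun K R hR hc => ?_) G (involves_equiv (MulEquiv.refl G))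
  obtain ⟨S⟩ := (inferInstance : Nonempty (Sylow 2 (↥K ⧸ R.subgroupOf K)))
  have hY := involves_section K R
  refine familyControlsStrongFusionIn_iff.mpr ⟨_, isSylowIn_top S, ?_⟩
  refine (fusControls_of_factor (isSylowIn_top S)
    (le_normalizer_functor (isConjugacyFunctor_induced (isCharPFunctor_center.{u} 2)) S.2)
    (le_normalizer_functor (isConjugacyFunctor_induced (isCharPFunctor_thompson.{u} 2)) S.2)
    fun x => ?_).mono ?_
  · obtain ⟨c, hc', m, hm, rfl⟩ := factor_of_noOffender hoff ((card_le_of_involves hY).trans hn) hc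
      (fun h => hfree (involves_trans hY h)) S x
    rw [inducedFunctor_center, inducedFunctor_thompson]
    exact ⟨c, centralizer_le_normalizer' _ hc', m, hm, rfl⟩
  · rintro M (rfl | rfl)
    · exact ⟨_, ⟨_, ⟨_, Set.mem_insert _ _, rfl⟩, rfl⟩, le_inf le_top le_rfl⟩
    · exact ⟨_, ⟨_, ⟨_, Set.mem_insert_of_mem _ rfl, rfl⟩, rfl⟩, le_inf le_top le_rfl⟩

variable {G : Type u} [Group G] [Finite G]

theorem normalizer_ne_top_of_pCore_eq_bot (hO : pCore 2 G = ⊥) {W : Subgroup G}
    (hW : IsPGroup 2 W) (hne : W ≠ ⊥) : normalizer (W : Set G) ≠ ⊤ := fun h => by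
  haveI : W.Normal := normalizer_eq_top_iff.1 h
  exact hne (le_bot_iff.1 (hO ▸ PLocal.le_pCore hW))

theorem centralizer_singleton_ne_top_of_pCore_eq_bot (hO : pCore 2 G = ⊥) {x : G} {W : Subgroup G}
    (hW : IsPGroup 2 W) (hx : x ∈ W) (hne : x ≠ 1) : Subgroup.centralizer ({x} : Set G) ≠ ⊤ :=
  fun h => normalizer_ne_top_of_pCore_eq_bot hO (hW.to_le (zpowers_le.2 hx))
    (zpowers_ne_bot.2 hne) (eq_top_iff.2 fun g _ => by
      refine mem_normalizer_of_forall_conj_mem fun y hy => ?_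
      obtain ⟨k, rfl⟩ := hy
      have hgx : g * x * g⁻¹ = x := by
        rw [mem_centralizer_singleton_iff.1 (h ▸ mem_top g : g ∈ _), mul_inv_cancel_right]
      rw [← conj_zpow, hgx]
      exact ⟨k, rfl⟩)

/-- If every proper subgroup with a conjugate of `B` inside `M` lies in `M`, conjugates of `B` by
elements outside `M` meet `M` trivially. -/
theorem eq_one_of_mem_conj (hoff : OffBound.{u} (Nat.card G))
    (hfree : ¬ Involves (Equiv.Perm (Fin 4)) G) (hO : pCore 2 G = ⊥) {M B : Subgroup G}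
    (S : Sylow 2 G) (hSM : (S : Subgroup G) ≤ M) (hBS : B ≤ S) [IsMulCommutative B]
    (huniq : ∀ H : Subgroup G, H ≠ ⊤ → ∀ x : G, x *• B ≤ H → x *• B ≤ M → H ≤ M)
    {g : G} (hg : g ∉ M) {b : G} (hb : b ∈ g *• B) (hbM : b ∈ M) : b = 1 := by
  by_contra hb1
  have hS := isSylowIn_top S
  have hSM' : IsSylowIn 2 (S : Subgroup G) M := hS.of_le hSM le_top
  have hbp : IsPGroup 2 (zpowers b) :=
    (isPGroup_cj g (S.2.to_le hBS)).to_le (zpowers_le.2 hb)
  have hSne : (S : Subgroup G) ≠ ⊥ :=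
    hSM'.ne_bot_of_le (zpowers_le.2 hbM) hbp (zpowers_ne_bot.2 hb1)
  -- a central element
  obtain ⟨z, hz, hz1⟩ := ((inducedFunctor (G := G) (fun Q [Group Q] => Subgroup.center Q)
    (S : Subgroup G)).bot_or_exists_ne_one).resolve_left
      ((isConjugacyFunctor_induced (isCharPFunctor_center.{u} 2) _ S.2).2.1 hSne)
  rw [inducedFunctor_center] at hz
  have hBC : ∀ a ∈ B, a * z = z * a := fun a ha => mem_centralizer_iff.1 hz.2 a (hBS ha)
  have hB1 : (1 : G) *• B ≤ M := by rw [cj_one]; exact hBS.trans hSM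
  -- centralisers of conjugates of the central element
  have hCz : Subgroup.centralizer ({z} : Set G) ≤ M :=
    huniq _ (centralizer_singleton_ne_top_of_pCore_eq_bot hO S.2 hz.1 hz1) 1
      (by rw [cj_one]; exact fun a ha => mem_centralizer_singleton_iff.2 (hBC a ha)) hB1
  -- fusion
  have hfus : ∀ e : G, e * z * e⁻¹ ∈ (S : Subgroup G) → e ∈ M := by
    intro e he
    have hc := fusControls_of_family (isConjugacyFunctor_induced_image zjFam_char)
      (familyFusion_of_offBound hoff le_rfl hfree) hS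
    have hmem : ∀ N ∈ famIn (indFam zjFam G) ⊤ (S : Subgroup G), ∃ N' ∈ ({M} : Set (Subgroup G)),
        N ≤ N' := by
      rintro _ ⟨_, ⟨W, hW, rfl⟩, rfl⟩
      refine ⟨M, rfl, ?_⟩
      have hfW := isConjugacyFunctor_induced (zjFam_char W hW) (G := G)
      show ⊤ ⊓ normalizer _ ≤ M
      rw [top_inf_eq]
      refine huniq _ ?_ 1 ?_ hB1
      · exact normalizer_ne_top_of_pCore_eq_bot hO (S.2.to_le (functor_le hfW S.2))
          ((hfW _ S.2).2.1 hSne)
      · rw [cj_one]
        exact hBS.trans (le_normalizer_functor hfW S.2)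
    obtain ⟨m, hm, hmz⟩ := ((hc {z} e trivial (Set.singleton_subset_iff.2 hz.1)
      (by rintro _ ⟨a, rfl, rfl⟩; exact he)).mono le_rfl hmem).exists_mem_of_singleton
    have hme := hmz z rfl
    have : m⁻¹ * e ∈ M := hCz (mem_centralizer_singleton_iff.2 (by
      calc m⁻¹ * e * z = m⁻¹ * (e * z * e⁻¹) * e := by group
        _ = z * (m⁻¹ * e) := by rw [← hme]; group))
    simpa using mul_mem hm this
  -- the centraliser of `b`
  have hCb : Subgroup.centralizer ({b} : Set G) ≤ g *• M := by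
    intro x hx
    rw [mem_cj]
    refine huniq (g⁻¹ *• Subgroup.centralizer ({b} : Set G)) ?_ 1 ?_ hB1 ?_
    · intro h
      refine centralizer_singleton_ne_top_of_pCore_eq_bot hO hbp (mem_zpowers b) hb1 ?_
      rw [← cj_cj_inv g (Subgroup.centralizer ({b} : Set G)), h]
      exact map_top_of_surjective _ (MulAut.conj g).surjective
    · rw [cj_one]
      intro a ha
      rw [mem_cj, inv_inv, mem_centralizer_singleton_iff]
      obtain ⟨b₀, hb₀, rfl⟩ := hb
      show g * a * g⁻¹ * (g * b₀ * g⁻¹) = g * b₀ * g⁻¹ * (g * a * g⁻¹)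
      calc g * a * g⁻¹ * (g * b₀ * g⁻¹) = g * (a * b₀) * g⁻¹ := by group
        _ = g * (b₀ * a) * g⁻¹ := by
          rw [show a * b₀ = b₀ * a from congrArg Subtype.val (mul_comm' (⟨a, ha⟩ : B) ⟨b₀, hb₀⟩)]
        _ = _ := by group
    · rw [mem_cj, inv_inv]
      simpa [mul_assoc] using hx
  -- the conjugate `z₁` commuting with `b`
  obtain ⟨a, haM, ha⟩ := hSM'.exists_cj_le (zpowers_le.2 hbM) hbp
  set z₁ := a⁻¹ * z * a with hz₁
  have hab : a * b * a⁻¹ ∈ (S : Subgroup G) := cj_le_iff.1 ha b (mem_zpowers b)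
  have hz₁M' : z₁ ∈ g *• M := hCb (mem_centralizer_singleton_iff.2 (by
    calc z₁ * b = a⁻¹ * (z * (a * b * a⁻¹)) * a := by rw [hz₁]; group
      _ = b * z₁ := by rw [← mem_centralizer_iff.1 hz.2 _ hab, hz₁]; group))
  have hCz₁ : Subgroup.centralizer ({z₁} : Set G) ≤ M := by
    intro x hx
    have h1 : a * x * a⁻¹ ∈ M := hCz (mem_centralizer_singleton_iff.2 (by
      calc a * x * a⁻¹ * z = a * (x * z₁) * a⁻¹ := by rw [hz₁]; group
        _ = _ := by rw [mem_centralizer_singleton_iff.1 hx, hz₁]; group))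
    simpa [mul_assoc] using mul_mem (mul_mem (inv_mem haM) h1) haM
  have hz₁p : IsPGroup 2 (zpowers z₁) :=
    (isPGroup_cj a⁻¹ S.2).to_le (zpowers_le.2 ⟨z, hz.1, by simp [hz₁, mul_assoc]⟩)
  -- and a conjugate `y` of `z` in `g M g⁻¹` commuting with `z₁`
  obtain ⟨c, hcM', hc⟩ := (hSM'.cj g).exists_cj_le (zpowers_le.2 hz₁M') hz₁p
  set y := c⁻¹ * (g * z * g⁻¹) * c with hy
  have hcz : (g⁻¹ * (c * z₁ * c⁻¹) * g) * z = z * (g⁻¹ * (c * z₁ * c⁻¹) * g) :=
    mem_centralizer_iff.1 hz.2 _ (mem_cj.1 (cj_le_iff.1 hc z₁ (mem_zpowers z₁)))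
  have hyM : y ∈ M := hCz₁ (mem_centralizer_singleton_iff.2 (by
    calc y * z₁ = c⁻¹ * g * (z * (g⁻¹ * (c * z₁ * c⁻¹) * g)) * g⁻¹ * c := by rw [hy]; group
      _ = z₁ * y := by rw [← hcz, hy]; group))
  have hyp : IsPGroup 2 (zpowers y) := (isPGroup_cj (c⁻¹ * g) S.2).to_le
    (zpowers_le.2 ⟨z, hz.1, by simp [hy, mul_assoc]⟩)
  obtain ⟨d, hdM, hd⟩ := hSM'.exists_cj_le (zpowers_le.2 hyM) hyp
  have he : d * c⁻¹ * g ∈ M := hfus _ (by
    have := cj_le_iff.1 hd y (mem_zpowers y)
    simpa [hy, mul_assoc] using this)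
  obtain ⟨m', hm', rfl⟩ := hcM'
  refine hg ?_
  have h2 := mul_mem (mul_mem (inv_mem hdM) he) hm'
  simpa [mul_assoc] using h2

end CfsgLib.NoOffender
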