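import Mathlib

/-!
Offenders of a group acting on an elementary abelian `2`-group `V`, their quadraticity, and the
largest invariant subspace without offenders.
-/

set_option autoImplicit false

namespace CfsgLib.NoOffender

variable {X V : Type*} [Group X] [AddCommGroup V] [DistribMulAction X V]

theorem card_sup_mul_card_inf {W : Type*} [AddCommGroup W] [Finite W] (A B : AddSubgroup W) :
    Nat.card ↥(A ⊔ B) * Nat.card ↥(A ⊓ B) = Nat.card A * Nat.card B := by
  have h1 : ∀ {H K : AddSubgroup W}, H ≤ K → Nat.card H * H.relIndex K = Nat.card K :=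
    fun {H K} h => by
      have := AddSubgroup.relIndex_mul_relIndex ⊥ H K bot_le h
      rwa [AddSubgroup.relIndex_bot_left, AddSubgroup.relIndex_bot_left] at this
  have h2 : B.relIndex (A ⊔ B) = (A ⊓ B).relIndex A := by
    rw [AddSubgroup.relIndex_sup_right, inf_comm, AddSubgroup.inf_relIndex_right]
  rw [← h1 (le_sup_right : B ≤ A ⊔ B), ← h1 (inf_le_left : A ⊓ B ≤ A), h2]
  ring

/-- The vectors fixed by a subgroup. -/
def fixV (B : Subgroup X) : AddSubgroup V where
  carrier := {v | ∀ b ∈ B, b • v = v}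
  zero_mem' b _ := smul_zero b
  add_mem' {u v} hu hv b hb := by rw [smul_add, hu b hb, hv b hb]
  neg_mem' {u} hu b hb := by rw [smul_neg, hu b hb]

theorem mem_fixV {B : Subgroup X} {v : V} : v ∈ fixV B ↔ ∀ b ∈ B, b • v = v := Iff.rfl

theorem fixV_anti {A B : Subgroup X} (h : A ≤ B) : (fixV B : AddSubgroup V) ≤ fixV A :=
  fun _ hv b hb => hv b (h hb)

/-- `B` leaves `S` invariant. -/
def Inv (B : Subgroup X) (S : AddSubgroup V) : Prop := ∀ b ∈ B, ∀ v ∈ S, b • v ∈ S

/-- The kernel of `B` on `S`. -/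
def kerOn (B : Subgroup X) (S : AddSubgroup V) : Subgroup X :=
  B ⊓ fixingSubgroup X (S : Set V)

theorem mem_kerOn {B : Subgroup X} {S : AddSubgroup V} {x : X} :
    x ∈ kerOn B S ↔ x ∈ B ∧ ∀ v ∈ S, x • v = v := by
  simp [kerOn, mem_fixingSubgroup_iff]

/-- `B` acts on `S` as a nontrivial elementary abelian group with `|S : C_S(B)| ≤ |B : C_B(S)|`. -/
structure OffOn (B : Subgroup X) (S : AddSubgroup V) : Prop where
  inv : Inv B S
  invol : ∀ b ∈ B, ∀ v ∈ S, b • b • v = v
  nontriv : ¬ S ≤ fixV B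
  card_le : Nat.card S * Nat.card (kerOn B S) ≤ Nat.card B * Nat.card ↥(S ⊓ fixV B)

/-- An offender on `S` with no proper subgroup offending on `S`. -/
def MinOff (B : Subgroup X) (S : AddSubgroup V) : Prop :=
  OffOn B S ∧ ∀ B' : Subgroup X, B' < B → ¬ OffOn B' S

/-- `[S, B, B] = 0`. -/
def Quad (B : Subgroup X) (S : AddSubgroup V) : Prop :=
  ∀ a ∈ B, ∀ b ∈ B, ∀ v ∈ S, b • (a • v - v) = a • v - v

/-- A subgroup acting with squares trivial acts commutatively. -/
theorem smul_comm_of_invol {B : Subgroup X} {S : AddSubgroup V} (hi : Inv B S)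
    (hs : ∀ b ∈ B, ∀ v ∈ S, b • b • v = v) {a b : X} (ha : a ∈ B) (hb : b ∈ B) {v : V}
    (hv : v ∈ S) : a • b • v = b • a • v := by
  have h1 := hs (a * b) (mul_mem ha hb) _ (hi b hb _ (hi a ha v hv))
  simp only [mul_smul] at h1
  rw [hs b hb _ (hi a ha v hv), hs a ha v hv] at h1
  exact h1

/-- An elementary abelian `2`-group `T` with `T = [T, B]` is trivial. -/
theorem eq_zero_of_le_commutator [Finite X] (hV : ∀ v : V, v + v = 0) {B : Subgroup X}
    {T : AddSubgroup V} (hi : Inv B T) (hs : ∀ b ∈ B, ∀ v ∈ T, b • b • v = v)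
    (h : T ≤ AddSubgroup.closure {x | ∃ b ∈ B, ∃ v ∈ T, b • v - v = x}) : T = ⊥ := by
  classical
  suffices H : ∀ s : Finset X, (∀ b ∈ s, b ∈ B) →
      T ≤ AddSubgroup.closure {x | ∃ b ∈ s, ∃ v ∈ T, b • v - v = x} → T = ⊥ by
    have : Fintype X := Fintype.ofFinite X
    refine H (Finset.univ.filter (· ∈ B)) (fun b hb => (Finset.mem_filter.1 hb).2) ?_
    simpa using h
  intro s
  induction s using Finset.induction_on with
  | empty => intro _ h; simpa using h
  | @insert b s _ ih =>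
    intro hsB hT
    have hb : b ∈ B := hsB b (Finset.mem_insert_self _ _)
    have hsB' : ∀ c ∈ s, c ∈ B := fun c hc => hsB c (Finset.mem_insert_of_mem hc)
    set K := AddSubgroup.closure {x | ∃ c ∈ s, ∃ v ∈ T, c • v - v = x} with hK
    have key : ∀ x ∈ AddSubgroup.closure {x | ∃ c ∈ insert b s, ∃ v ∈ T, c • v - v = x},
        b • x - x ∈ K := by
      intro x hx
      induction hx using AddSubgroup.closure_induction with
      | mem y hy =>
        obtain ⟨c, hc, v, hv, rfl⟩ := hy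
        rcases Finset.mem_insert.1 hc with rfl | hc
        · have : c • (c • v - v) - (c • v - v) = 0 := by
            rw [smul_sub, hs c hb v hv]
            calc v - c • v - (c • v - v) = (v + v) - (c • v + c • v) := by abel
              _ = 0 := by rw [hV, hV, sub_zero]
          rw [this]; exact zero_mem K
        · refine AddSubgroup.subset_closure ⟨c, hc, b • v - v, sub_mem (hi b hb v hv) hv, ?_⟩
          rw [smul_sub, smul_sub, smul_comm_of_invol hi hs (hsB' c hc) hb hv]
          abel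
      | zero => simp
      | add y z _ _ hy hz =>
        have := add_mem hy hz
        rwa [smul_add, show b • y + b • z - (y + z) = b • y - y + (b • z - z) by abel]
      | neg y _ hy =>
        have := neg_mem hy
        rwa [smul_neg, show -(b • y) - -y = -(b • y - y) by abel]
    refine ih hsB' (le_trans hT ((AddSubgroup.closure_le _).2 ?_))
    rintro _ ⟨c, hc, v, hv, rfl⟩
    rcases Finset.mem_insert.1 hc with rfl | hc
    · exact key v (hT hv)
    · exact AddSubgroup.subset_closure ⟨c, hc, v, hv, rfl⟩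

variable [Finite X] [Finite V]

omit [Finite X] in
theorem MinOff.restrict {B : Subgroup X} {S S' : AddSubgroup V} (h : MinOff B S) (hle : S' ≤ S)
    (hi : Inv B S') : S' ≤ fixV B ∨ OffOn B S' := by
  by_cases hfix : S' ≤ fixV B
  · exact Or.inl hfix
  refine Or.inr ⟨hi, fun b hb v hv => h.1.invol b hb v (hle hv), hfix, ?_⟩
  set U := S ⊓ fixV B with hU
  have hU' : S' ⊓ fixV B = S' ⊓ U := by rw [hU, ← inf_assoc, inf_eq_left.2 hle]
  have hsum := card_sup_mul_card_inf S' U
  rw [← hU'] at hsum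
  have hsupS : S' ⊔ U ≤ S := sup_le hle inf_le_left
  set K := kerOn B S
  set K' := kerOn B S'
  have hKK' : K ≤ K' := fun x hx =>
    mem_kerOn.2 ⟨(mem_kerOn.1 hx).1, fun v hv => (mem_kerOn.1 hx).2 v (hle hv)⟩
  have hUpos : 0 < Nat.card U := Nat.card_pos
  rcases eq_or_lt_of_le hKK' with heq | hlt
  · rw [← heq]
    refine Nat.le_of_mul_le_mul_right ?_ hUpos
    calc Nat.card S' * Nat.card K * Nat.card U
        = Nat.card S' * Nat.card U * Nat.card K := by ring
      _ = Nat.card ↥(S' ⊔ U) * Nat.card ↥(S' ⊓ fixV B) * Nat.card K := by rw [hsum]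
      _ ≤ Nat.card S * Nat.card ↥(S' ⊓ fixV B) * Nat.card K :=
          Nat.mul_le_mul_right _ (Nat.mul_le_mul_right _ (AddSubgroup.card_le_of_le hsupS))
      _ = Nat.card S * Nat.card K * Nat.card ↥(S' ⊓ fixV B) := by ring
      _ ≤ Nat.card B * Nat.card U * Nat.card ↥(S' ⊓ fixV B) :=
          Nat.mul_le_mul_right _ h.1.card_le
      _ = _ := by ring
  · have hK'B : K' < B := lt_of_le_of_ne inf_le_left fun he => hfix fun v hv b hb =>
      (mem_kerOn.1 (he.symm ▸ hb : b ∈ K')).2 v hv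
    have hnt : ¬ S ≤ fixV K' := fun hS => hlt.not_ge fun x hx =>
      mem_kerOn.2 ⟨(mem_kerOn.1 hx).1, fun v hv => hS hv x hx⟩
    have hker : kerOn K' S = K := by
      ext x
      exact ⟨fun hx => mem_kerOn.2 ⟨(mem_kerOn.1 (mem_kerOn.1 hx).1).1, (mem_kerOn.1 hx).2⟩,
        fun hx => mem_kerOn.2 ⟨hKK' hx, (mem_kerOn.1 hx).2⟩⟩
    have hfail : Nat.card K' * Nat.card ↥(S ⊓ fixV K') < Nat.card S * Nat.card K := by
      by_contra hge
      exact h.2 K' hK'B ⟨fun b hb => h.1.inv b (hK'B.le hb),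
        fun b hb => h.1.invol b (hK'B.le hb), hnt, hker.symm ▸ Nat.le_of_not_lt hge⟩
    have hsupK : S' ⊔ U ≤ S ⊓ fixV K' := sup_le
      (le_inf hle fun v hv b hb => (mem_kerOn.1 hb).2 v hv) (inf_le_inf_left S (fixV_anti hK'B.le))
    refine Nat.le_of_mul_le_mul_right ?_ hUpos
    calc Nat.card S' * Nat.card K' * Nat.card U
        = Nat.card K' * (Nat.card ↥(S' ⊔ U) * Nat.card ↥(S' ⊓ fixV B)) := by rw [hsum]; ring
      _ ≤ Nat.card K' * Nat.card ↥(S ⊓ fixV K') * Nat.card ↥(S' ⊓ fixV B) := by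
          rw [mul_assoc]
          exact Nat.mul_le_mul_left _ (Nat.mul_le_mul_right _ (AddSubgroup.card_le_of_le hsupK))
      _ ≤ Nat.card S * Nat.card K * Nat.card ↥(S' ⊓ fixV B) := Nat.mul_le_mul_right _ hfail.le
      _ ≤ Nat.card B * Nat.card U * Nat.card ↥(S' ⊓ fixV B) :=
          Nat.mul_le_mul_right _ h.1.card_le
      _ = _ := by ring

omit [Finite V] in
theorem exists_minOff {B : Subgroup X} {S : AddSubgroup V} (h : OffOn B S) :
    ∃ B', B' ≤ B ∧ MinOff B' S := by
  obtain ⟨B', ⟨hle, hB'⟩, hmin⟩ := Set.exists_min_image {A : Subgroup X | A ≤ B ∧ OffOn A S}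
    (fun A => Nat.card A) (Set.toFinite _) ⟨B, le_rfl, h⟩
  exact ⟨B', hle, hB', fun A hA hAoff => absurd (hmin A ⟨hA.le.trans hle, hAoff⟩)
    (not_le.2 (lt_of_le_of_ne (Subgroup.card_le_of_le hA.le) fun he =>
      hA.ne (Subgroup.eq_of_le_of_card_ge hA.le he.ge)))⟩

/-- Minimal offenders are quadratic. -/
theorem MinOff.quad (hV : ∀ v : V, v + v = 0) {B : Subgroup X} {S : AddSubgroup V}
    (h : MinOff B S) : Quad B S := by
  classical
  intro a₁ ha₁ b₁ hb₁ u hu
  obtain ⟨hi, hs, hnt, hcard⟩ := h.1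
  set U := S ⊓ fixV B with hU
  set F : Set V := (fun a => a • u - u) '' (B : Set X) with hF
  set Bu := B ⊓ fixingSubgroup X F with hBu
  set W := AddSubgroup.closure F ⊔ U with hW
  have hFS : F ⊆ S := by rintro _ ⟨a, ha, rfl⟩; exact sub_mem (hi a ha u hu) hu
  have hmemBu : ∀ x, x ∈ Bu ↔ x ∈ B ∧ ∀ a ∈ B, x • (a • u - u) = a • u - u := fun x => by
    simp [hBu, hF, mem_fixingSubgroup_iff]
  have hWfix : W ≤ S ⊓ fixV Bu := by
    refine sup_le ((AddSubgroup.closure_le _).2 ?_)
      (inf_le_inf_left S (fixV_anti inf_le_left))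
    rintro _ ⟨a, ha, rfl⟩
    exact ⟨hFS ⟨a, ha, rfl⟩, fun x hx => ((hmemBu x).1 hx).2 a ha⟩
  have hWF : ∀ a ∈ B, a • u - u ∈ W := fun a ha =>
    AddSubgroup.mem_sup_left (AddSubgroup.subset_closure ⟨a, ha, rfl⟩)
  -- the counting
  let ψ : B → W ⧸ U.addSubgroupOf W := fun a => QuotientAddGroup.mk ⟨(a : X) • u - u, hWF a a.2⟩
  have hψ : ∀ a a' : B, ψ a = ψ a' → (a : X)⁻¹ * a' ∈ Bu := by
    intro a a' haa
    refine (hmemBu _).2 ⟨mul_mem (inv_mem a.2) a'.2, fun c hc => ?_⟩
    have h1 : -((a : X) • u - u) + ((a' : X) • u - u) ∈ U := by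
      have := AddSubgroup.mem_addSubgroupOf.1 (QuotientAddGroup.eq.1 haa)
      simpa using this
    have h2 : (c : X) • ((a' : X) • u - (a : X) • u) = (a' : X) • u - (a : X) • u := by
      have := h1.2 c hc
      rwa [show -((a : X) • u - u) + ((a' : X) • u - u) = (a' : X) • u - (a : X) • u by abel] at this
    rw [mul_smul, inv_smul_eq_iff, smul_sub, smul_sub, smul_comm_of_invol hi hs a'.2 hc hu,
      smul_comm_of_invol hi hs a.2 hc hu]
    rw [smul_sub] at h2
    calc c • (a' : X) • u - (a' : X) • u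
        = (c • (a' : X) • u - c • (a : X) • u) - ((a' : X) • u - (a : X) • u) +
            (c • (a : X) • u - (a : X) • u) := by abel
      _ = c • (a : X) • u - (a : X) • u := by rw [h2, sub_self, zero_add]
  have hcount : Nat.card B * Nat.card U ≤ Nat.card Bu * Nat.card W := by
    let rep : Set.range ψ → B := Set.rangeSplitting ψ
    let j : B → (W ⧸ U.addSubgroupOf W) × Bu := fun a =>
      (ψ a, ⟨((rep ⟨ψ a, a, rfl⟩ : B) : X)⁻¹ * (a : X),
        hψ _ _ (Set.apply_rangeSplitting ψ ⟨ψ a, a, rfl⟩)⟩)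
    have hj : Function.Injective j := by
      intro a a' haa
      have h1 : ψ a = ψ a' := congrArg Prod.fst haa
      have h2 := congrArg (fun q => ((Prod.snd q : Bu) : X)) haa
      simp only [j, h1] at h2
      exact Subtype.ext (mul_left_cancel h2)
    have h3 := Nat.card_le_card_of_injective j hj
    rw [Nat.card_prod] at h3
    have h4 : Nat.card U * Nat.card (W ⧸ U.addSubgroupOf W) = Nat.card W := by
      rw [← (AddSubgroup.addSubgroupOfEquivOfLe (le_sup_right : U ≤ W)).toEquiv |> Nat.card_congr]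
      exact AddSubgroup.card_mul_index _
    calc Nat.card B * Nat.card U ≤ Nat.card (W ⧸ U.addSubgroupOf W) * Nat.card Bu * Nat.card U :=
          Nat.mul_le_mul_right _ h3
      _ = _ := by rw [← h4]; ring
  have hkerle : kerOn B S ≤ Bu := fun x hx =>
    (hmemBu x).2 ⟨(mem_kerOn.1 hx).1, fun a ha => (mem_kerOn.1 hx).2 _ (hFS ⟨a, ha, rfl⟩)⟩
  have hkerBu : kerOn Bu S = kerOn B S := by
    ext x
    exact ⟨fun hx => mem_kerOn.2 ⟨((hmemBu x).1 (mem_kerOn.1 hx).1).1, (mem_kerOn.1 hx).2⟩,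
      fun hx => mem_kerOn.2 ⟨hkerle hx, (mem_kerOn.1 hx).2⟩⟩
  by_cases hBuB : Bu = B
  · exact ((hmemBu b₁).1 (hBuB.symm ▸ hb₁)).2 a₁ ha₁
  exfalso
  by_cases hfix : S ≤ fixV Bu
  · -- then `S = [u, B] + U`
    have hBuK : Bu = kerOn B S := le_antisymm
      (fun x hx => mem_kerOn.2 ⟨((hmemBu x).1 hx).1, fun v hv => hfix hv x hx⟩) hkerle
    have hWS : W = S := by
      refine SetLike.ext' (Set.Finite.eq_of_subset_of_card_le (Set.toFinite _)
        (fun v hv => (hWfix hv).1) ?_)
      have hK : 0 < Nat.card (kerOn B S) := Nat.card_pos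
      refine Nat.le_of_mul_le_mul_right (le_trans hcard ?_) hK
      exact hcount.trans (by rw [hBuK, mul_comm]; rfl)
    set I := AddSubgroup.closure {x | ∃ b ∈ B, ∃ v ∈ S, b • v - v = x} with hI
    have hIS : I ≤ S := (AddSubgroup.closure_le _).2 (by
      rintro _ ⟨b, hb, v, hv, rfl⟩; exact sub_mem (hi b hb v hv) hv)
    have hWI : W ≤ I ⊔ U := sup_le_sup_right (AddSubgroup.closure_mono (by
      rintro _ ⟨a, ha, rfl⟩; exact ⟨a, ha, u, hu, rfl⟩)) U
    have hIz : I = ⊥ := by
      refine eq_zero_of_le_commutator hV (B := B) (fun b hb v hv => ?_)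
        (fun b hb v hv => hs b hb v (hIS hv)) ((AddSubgroup.closure_le _).2 ?_)
      · have : b • v - v ∈ I := AddSubgroup.subset_closure ⟨b, hb, v, hIS hv, rfl⟩
        simpa using add_mem this hv
      · rintro _ ⟨b, hb, v, hv, rfl⟩
        obtain ⟨i, hi', c, hc, rfl⟩ := AddSubgroup.mem_sup.1 (hWI (hWS.symm ▸ hv))
        refine AddSubgroup.subset_closure ⟨b, hb, i, hi', ?_⟩
        rw [smul_add, hc.2 b hb]
        abel
    refine hnt fun v hv b hb => ?_
    have : b • v - v ∈ I := AddSubgroup.subset_closure ⟨b, hb, v, hv, rfl⟩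
    rw [hIz, AddSubgroup.mem_bot, sub_eq_zero] at this
    exact this
  · refine h.2 Bu (lt_of_le_of_ne inf_le_left hBuB) ⟨fun b hb => hi b hb.1,
      fun b hb => hs b hb.1, hfix, ?_⟩
    rw [hkerBu]
    exact hcard.trans (hcount.trans (Nat.mul_le_mul_left _ (AddSubgroup.card_le_of_le hWfix)))

/-- A `P`-invariant subgroup without offenders in `P`. -/
def Good (P : Subgroup X) (S : AddSubgroup V) : Prop := Inv P S ∧ ∀ B ≤ P, ¬ OffOn B S

omit [Finite X] [Finite V] in
theorem good_of_le_fixV {P : Subgroup X} {S : AddSubgroup V} (h : S ≤ fixV P) : Good P S :=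
  ⟨fun b hb v hv => (h hv b hb).symm ▸ hv, fun _ hB hoff => hoff.nontriv (h.trans (fixV_anti hB))⟩

omit [Finite X] [Finite V] in
theorem Good.anti {P Q : Subgroup X} {S : AddSubgroup V} (hQ : Q ≤ P) (h : Good P S) : Good Q S :=
  ⟨fun b hb => h.1 b (hQ hb), fun B hB => h.2 B (hB.trans hQ)⟩

theorem Good.le_fixV {P B : Subgroup X} {S T : AddSubgroup V} (h : Good P S) (hB : B ≤ P)
    (hmin : MinOff B T) (hle : S ≤ T) : S ≤ fixV B :=
  (hmin.restrict hle fun b hb => h.1 b (hB hb)).resolve_right (h.2 B hB)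

theorem Good.sup {P : Subgroup X} {S T : AddSubgroup V} (hS : Good P S) (hT : Good P T) :
    Good P (S ⊔ T) := by
  refine ⟨fun b hb v hv => ?_, fun B hB hoff => ?_⟩
  · obtain ⟨s, hs, t, ht, rfl⟩ := AddSubgroup.mem_sup.1 hv
    rw [smul_add]
    exact AddSubgroup.add_mem_sup (hS.1 b hb s hs) (hT.1 b hb t ht)
  · obtain ⟨B', hB', hmin⟩ := exists_minOff hoff
    exact hmin.1.nontriv (sup_le (hS.le_fixV (hB'.trans hB) hmin le_sup_left)
      (hT.le_fixV (hB'.trans hB) hmin le_sup_right))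

/-- The largest `P`-invariant subgroup without offenders in `P`. -/
noncomputable def dGood (P : Subgroup X) : AddSubgroup V :=
  ((Set.toFinite {S : AddSubgroup V | Good P S}).toFinset).sup id

theorem good_dGood (P : Subgroup X) : Good P (dGood P : AddSubgroup V) :=
  Finset.sup_induction (good_of_le_fixV bot_le) (fun _ ha _ hb => ha.sup hb)
    fun _ hS => by simpa using hS

omit [Finite X] in
theorem le_dGood {P : Subgroup X} {S : AddSubgroup V} (h : Good P S) : S ≤ dGood P :=
  Finset.le_sup (f := id) (by simpa using h)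

end CfsgLib.NoOffender
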